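import Cfsg.Agent.Lib.CoThree.Quot
import Cfsg.Agent.Lib.CoFive.Quot
import Cfsg.Agent.Lib.HJ.ThreeSylow

/-!
The element `x` lies in the commutator subgroup of its centraliser, which is therefore quasisimple.
The commutators are found in the centraliser of an element of order five commuting with `x`, which
modulo that element is of Hall–Janko type.
-/

set_option autoImplicit false
set_option linter.style.haveILetI false
set_option linter.unusedSectionVars false
set_option maxRecDepth 20000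
set_option synthInstance.maxSize 4000
set_option synthInstance.maxHeartbeats 400000

open scoped commutatorElement

namespace Cfsg.Agent.CoThree

open Cfsg.Agent.CoT Subgroup

local notation "F" => ZMod 2

/-- In a group of Hall–Janko type an element of order three centralising a subgroup of order eight
lies in the commutator subgroup of its centraliser. -/
theorem hj_derived {K : Type*} [Group K] [Finite K] {z : K} {Q : Subgroup K}
    {φ : ↥(centralizer ({z} : Set K)) →* HJ.A5} (S : HJ.Setup z Q φ) {y : K} (hy : orderOf y = 3)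
    (h8 : 8 ∣ Nat.card (centralizer ({y} : Set K))) :
    y ∈ ⁅centralizer ({y} : Set K), centralizer ({y} : Set K)⁆ := by
  obtain ⟨u, a, x, s, K', V', C⟩ := S.exists_ctx
  rcases C.three_classes hy with h | h
  · obtain ⟨g, hg⟩ := isConj_iff.1 h.symm
    subst hg
    obtain ⟨P, hPM, ⟨⟨hp, -, hcom⟩, -⟩, -⟩ := C.sylow_three
    haveI : Fact (Nat.Prime 3) := ⟨Nat.prime_three⟩
    have hxc : ∀ p ∈ (P : Subgroup K), p * x = x * p := fun p hp =>
      mem_centralizer_singleton_iff.1 (hPM hp)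
    have hxP : x ∈ (P : Subgroup K) := by
      have hz : zpowers x ≤ normalizer ((P : Subgroup K) : Set K) := by
        refine zpowers_le.2 (Subgroup.mem_normalizer_iff.2 fun p => ⟨fun h => ?_, fun h => ?_⟩)
        · rwa [← hxc p h, mul_inv_cancel_right]
        · have h' := hxc _ h
          rw [inv_mul_cancel_right] at h'
          rwa [mul_left_cancel h']
      have hpg : IsPGroup 3 ↥((P : Subgroup K) ⊔ zpowers x) :=
        P.isPGroup'.to_sup_of_normal_left'
          (IsPGroup.of_card (p := 3) (n := 1) (by rw [Nat.card_zpowers, C.orderOf_x, pow_one])) hz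
      rw [← P.is_maximal' hpg le_sup_left]
      exact mem_sup_right (mem_zpowers x)
    have hxd : x ∈ ⁅(P : Subgroup K), (P : Subgroup K)⁆ := by
      have h1 : (⟨x, hxP⟩ : (P : Subgroup K)) ∈ commutator (P : Subgroup K) := by
        rw [hcom, Subgroup.mem_center_iff]
        exact fun p => Subtype.ext (hxc p p.2)
      have h2 := mem_map_of_mem (P : Subgroup K).subtype h1
      rwa [Subgroup.map_subtype_commutator] at h2
    have h3 := mem_map_of_mem (MulAut.conj g).toMonoidHom
      (Subgroup.commutator_mono hPM hPM hxd)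
    rw [Subgroup.map_commutator] at h3
    have hle : (centralizer ({x} : Set K)).map (MulAut.conj g).toMonoidHom ≤
        centralizer ({g * x * g⁻¹} : Set K) := by
      rintro _ ⟨p, hp, rfl⟩
      refine mem_centralizer_singleton_iff.2 ?_
      show g * p * g⁻¹ * (g * x * g⁻¹) = g * x * g⁻¹ * (g * p * g⁻¹)
      rw [show g * p * g⁻¹ * (g * x * g⁻¹) = g * (p * x) * g⁻¹ by group,
        mem_centralizer_singleton_iff.1 hp]
      group
    exact Subgroup.commutator_mono hle hle h3
  · obtain ⟨g, hg⟩ := isConj_iff.1 h.symm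
    subst hg
    exfalso
    rw [show g * a * g⁻¹ = MulAut.conj g a from rfl, ← HJ.card_cent_equiv] at h8
    rcases C.card_cent_a with e | e <;> rw [e] at h8 <;> norm_num at h8

theorem five_fix : ∀ a b c d : F,
    CoFive.comb CoFive.tv a b c d = CoFive.comb (fun i => CoFive.tv (finRotate 5 i)) a b c d →
      a = 0 ∧ b = 0 ∧ c = 0 ∧ d = 0 := by decide +kernel

theorem sig_tv : ∀ i, sig (CoFive.tv i) = CoFive.tv i := by decide +kernel

theorem four_perp : Nat.card {v : V // CoFive.Perp CoFive.tv v ∧ Perp v} = 4 := by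
  rw [Nat.card_eq_fintype_card]; decide +kernel

variable {G : Type*} [Group G] [Finite G] {z : G} {Q : Subgroup G} {π : G → V} {ρ : G → V → V}

/-- An element of order five with the standard fixed space. -/
theorem exists_five (S : Su z Q π ρ) : ∃ β, CoFive.Fv z Q π ρ β := by
  haveI : Fact (Nat.Prime 5) := ⟨by norm_num⟩
  obtain ⟨f, hf, hfs, hft⟩ := CoFive.two_std.exists_om 1 (finRotate 5) (by decide +kernel)
  have hiff : ∀ v, f v = v ↔ CoFive.Perp CoFive.tv v := by
    intro v
    have hfix : ∀ w, CoFive.Perp CoFive.tv w → f w = w := fun w hw => by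
      obtain ⟨a, b, c, d, rfl⟩ := CoFive.pent_sv.span_eq (CoFive.two_std.perp_iff.1 hw)
      rw [CoFive.Pent.map_comb hf.add]
      congr 1
      exact funext fun i => by rw [hfs]; rfl
    refine ⟨fun h => ?_, hfix v⟩
    obtain ⟨a, b, c, d, w, hw, rfl⟩ := CoFive.pent_tv.decomp v
    rw [hf.add, hfix w hw, CoFive.Pent.map_comb hf.add, funext hft, add_left_inj] at h
    obtain ⟨rfl, rfl, rfl, rfl⟩ := five_fix a b c d h.symm
    simpa [CoFive.comb, sm_zero] using hw
  have h5 : ∀ v, f (f (f (f (f v)))) = v := fun v => congrFun (CoFive.two_std.ext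
    (f := fun v => f (f (f (f (f v))))) (g := fun v => v) (fun a b => by simp only [hf.add])
    (fun _ _ => rfl) (fun i => by simp [hfs]) (fun i => by
      simp only [hft]
      exact congrArg CoFive.tv ((show ∀ j : Fin 5,
        finRotate 5 (finRotate 5 (finRotate 5 (finRotate 5 (finRotate 5 j)))) = j by decide +kernel) i))) v
  obtain ⟨h, hh, hρ⟩ := S.lift f hf
  have h5Q : h ^ 5 ∈ Q := (S.ker _ ((Commute.pow_left hh 5).eq)).1 fun v => by
    rw [CoFive.rho_pow S hh, hρ]
    exact h5 v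
  have hρ16 : ∀ v, ρ (h ^ 16) v = f v := fun v => by
    rw [CoFive.rho_pow S hh, hρ]
    show f (f (f (f (f (f (f (f (f (f (f (f (f (f (f (f v))))))))))))))) = f v
    rw [h5, h5, h5]
  refine ⟨h ^ 16, S, orderOf_eq_prime ?_ fun e => ?_, (Commute.pow_left hh 16).eq, fun v => by
    rw [hρ16]; exact hiff v⟩
  · rw [← pow_mul, show 16 * 5 = 5 * 4 * 4 by norm_num, pow_mul, pow_mul, CoFive.four_pow S h5Q, one_pow]
  · have h1 := hρ16 (CoFive.tv 0)
    rw [e, S.rho_one, hft] at h1
    exact absurd h1 (by decide +kernel)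

/-- An element with the action `sig` in the complement. -/
theorem exists_fx_cen (S : Su z Q π ρ) :
    ∃ x, Fx z Q π ρ x ∧ x ∈ CoFive.Cen Q π CoFive.sv := by
  haveI : Fact (Nat.Prime 3) := ⟨Nat.prime_three⟩
  obtain ⟨h, hC, hρ⟩ := CoFive.cen_lift S CoFive.two_std.symm isOm_sig sig_tv
  have hh := CoFive.cen_z S hC
  have h3 : h ^ 3 ∈ Q := (S.ker _ ((Commute.pow_left hh 3).eq)).1 fun v => by
    rw [CoFive.rho_pow S hh, hρ]
    show sig (sig (sig v)) = v
    rw [(sig_inv v).2.2, (sig_inv v).1]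
  have hx : ∀ v, ρ (h ^ 4) v = sig v := fun v => by
    rw [CoFive.rho_pow S hh, hρ]
    show sig (sig (sig (sig v))) = sig v
    rw [(sig_inv v).2.2, (sig_inv v).1]
  refine ⟨h ^ 4, ⟨S, orderOf_eq_prime ?_ fun e => ?_, (Commute.pow_left hh 4).eq, hx⟩, pow_mem hC 4⟩
  · rw [← pow_mul, mul_comm, pow_mul, CoFive.four_pow S h3]
  · have h1 := hx a0
    rw [e, S.rho_one, sig_facts.1] at h1
    exact absurd h1 (by decide +kernel)

open Cfsg.Agent.CoFive Equiv in
theorem derived_of_cfg {β s g n : G} (c : CoFive.Cfg z Q π ρ β s g n) {x : G} (W : Fx z Q π ρ x)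
    (hxP : x ∈ CoFive.Cen Q π CoFive.sv) :
    x ∈ ⁅centralizer ({x} : Set G), centralizer ({x} : Set G)⁆ := by
  classical
  have S := c.X.S
  have Z := c.Z
  set CB := centralizer ({β} : Set G) with hCB
  set Bc := (zpowers β).subgroupOf CB with hBc
  let K := CB ⧸ Bc
  let q : CB →* K := QuotientGroup.mk' Bc
  have hPC : Cen Q π sv ≤ CB := fun p hp => mem_centralizer_singleton_iff.2 (Z.beta_P hp)
  have hzC : z ∈ CB := hPC c.z_P
  have hnC : n ∈ CB := mem_centralizer_singleton_iff.2 c.nb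
  let j : Cen Q π sv →* K := q.comp (inclusion hPC)
  have hbpow : ∀ {x : G}, x ∈ zpowers β → ∃ k : ℕ, β ^ k = x := fun hx => by
    obtain ⟨k, -, hk⟩ := Finset.mem_image.1 ((isOfFinOrder_of_finite β).mem_zpowers_iff_mem_range_orderOf.1 hx)
    exact ⟨k, hk⟩
  have hjinj : Function.Injective j := (injective_iff_map_eq_one j).2 fun p hp => by
    obtain ⟨k, hk⟩ := hbpow (mem_subgroupOf.1 ((QuotientGroup.eq_one_iff _).1 hp))
    have hk' : β ^ k = (p : G) := hk
    exact Subtype.ext (hk'.symm.trans (Z.beta_disj (hk' ▸ p.2)))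
  set zP : Cen Q π sv := ⟨z, c.z_P⟩ with hzP
  set zK : K := j zP with hzK
  have hzK1 : zK ≠ 1 := fun e => S.loc.ne_one
    (congrArg Subtype.val (hjinj (e.trans (map_one j).symm)))
  have hzz : zK * zK = 1 := by
    rw [hzK, ← map_mul, show zP * zP = 1 from Subtype.ext S.loc.sq, map_one]
  -- the centraliser of the image of `z`
  have hjC : ∀ p, j p ∈ centralizer ({zK} : Set K) := fun p => mem_centralizer_singleton_iff.2 (by
    rw [hzK, ← map_mul, ← map_mul]
    exact congrArg j (Subtype.ext (Z.P_le_z p.2)))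
  have hfac : ∀ h : K, h * zK = zK * h → ∃ p, j p = h := by
    intro h hh
    obtain ⟨x, rfl⟩ := QuotientGroup.mk'_surjective Bc h
    have h1 : (x * ⟨z, hzC⟩ * x⁻¹ * (⟨z, hzC⟩ : CB)⁻¹) ∈ Bc := by
      refine (QuotientGroup.eq_one_iff _).1 ?_
      show q (x * ⟨z, hzC⟩ * x⁻¹ * (⟨z, hzC⟩ : CB)⁻¹) = 1
      rw [map_mul, map_mul, map_mul, map_inv, map_inv, show q ⟨z, hzC⟩ = zK from rfl]
      show q x * zK * (q x)⁻¹ * zK⁻¹ = 1
      rw [show q x * zK = zK * q x from hh, mul_inv_cancel_right, mul_inv_cancel]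
    obtain ⟨k, hk⟩ := hbpow (mem_subgroupOf.1 h1)
    have hk' : (x : G) * z * (x : G)⁻¹ = β ^ k * z := by
      rw [show β ^ k = (x : G) * z * (x : G)⁻¹ * z⁻¹ from hk]; group
    have hsq : β ^ k * β ^ k = 1 := by
      calc β ^ k * β ^ k = β ^ k * β ^ k * (z * z) := by rw [S.loc.sq, mul_one]
        _ = β ^ k * z * (β ^ k * z) := (show Commute (β ^ k) z from Z.beta_z k).mul_mul_mul_comm _ _
        _ = (x : G) * (z * z) * (x : G)⁻¹ := by rw [← hk']; group
        _ = 1 := by rw [S.loc.sq]; group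
    have hk1 : β ^ k = 1 := eq_one_of_pow (m := 2) (n := 5) (by rw [pow_two, hsq])
      (by rw [← pow_mul, mul_comm, pow_mul, Z.beta_pow_five, one_pow]) (by norm_num)
    rw [hk1, one_mul, mul_inv_eq_iff_eq_mul] at hk'
    obtain ⟨p, hp, i, hpi⟩ := Z.factor hk' (mem_centralizer_singleton_iff.1 x.2)
    refine ⟨⟨p, hp⟩, (QuotientGroup.eq (s := Bc)).2 (mem_subgroupOf.2 ?_)⟩
    show p⁻¹ * (x : G) ∈ zpowers β
    rw [hpi, inv_mul_cancel_left]
    exact Subgroup.npow_mem_zpowers β i
  let J : Cen Q π sv →* centralizer ({zK} : Set K) := j.codRestrict _ hjC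
  have hJ : Function.Bijective J := ⟨fun a b e => hjinj (congrArg Subtype.val e), fun h => by
    obtain ⟨p, hp⟩ := hfac h (mem_centralizer_singleton_iff.1 h.2)
    exact ⟨p, Subtype.ext hp⟩⟩
  let e := MulEquiv.ofBijective J hJ
  obtain ⟨ψ, hψ, hker⟩ := exists_cen_hom S two_std.symm
  let φ : centralizer ({zK} : Set K) →* HJ.A5 := ψ.comp e.symm.toMonoidHom
  let QK : Subgroup K := ((U Q π tv).subgroupOf (Cen Q π sv)).map j
  have hQK : ∀ {x : K}, x ∈ QK ↔ ∃ p : Cen Q π sv, (p : G) ∈ U Q π tv ∧ j p = x := fun {x} => Iff.rfl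
  obtain ⟨t, htP, htt, ht1, htz⟩ := c.exists_outer
  have hHJ : HJ.Setup zK QK φ :=
  { zz := hzz
    zne := hzK1
    card := by
      have h1 : Nat.card QK = Nat.card (U Q π tv) := by
        rw [← Nat.card_congr (Subgroup.subgroupOfEquivOfLe Z.U_le_P).toEquiv]
        exact (Nat.card_congr (((U Q π tv).subgroupOf _).equivMapOfInjective j hjinj).toEquiv).symm
      have h2 : Nat.card {v : V // CoFive.Perp tv v} = 16 := by
        rw [Nat.card_eq_fintype_card]; decide +kernel
      have h := card_lift S (CoFive.Perp tv)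
      rw [h2] at h
      rw [h1, ← show Nat.card {x : G // x ∈ Q ∧ CoFive.Perp tv (π x)} = Nat.card (U Q π tv) from
        Nat.card_congr (Equiv.subtypeEquivRight fun x => (CoFive.mem_U S).symm), h]
    zQ := hQK.2 ⟨zP, z_mem_U S, rfl⟩
    center := by
      rintro x hx hall
      obtain ⟨p, hp, rfl⟩ := hQK.1 hx
      have hpM : (p : G) ∈ Cen Q π tv := mem_centralizer_iff.2 fun u hu => by
        have := hjinj (by simpa [map_mul] using hall _ (hQK.2 ⟨⟨u, Z.U_le_P hu⟩, hu, rfl⟩) :
          j (p * ⟨u, Z.U_le_P hu⟩) = j (⟨u, Z.U_le_P hu⟩ * p))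
        exact (congrArg Subtype.val this).symm
      obtain ⟨hpQ, hP1⟩ := (CoFive.mem_U S).1 hp
      have hP2 := ((CoFive.mem_U S).1 ((cen_inf_Q S two_std).1 ⟨hpM, hpQ⟩)).2
      rcases (S.pi_eq _ hpQ).1 (two_std.total _ hP2 hP1) with e | e
      · exact Or.inl (by rw [show p = 1 from Subtype.ext e, map_one])
      · exact Or.inr (by rw [hzK, show p = zP from Subtype.ext e])
    comm := by
      rintro x hx y hy
      obtain ⟨a, ha, rfl⟩ := hQK.1 hx
      obtain ⟨b, hb, rfl⟩ := hQK.1 hy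
      have h := S.rule ((CoFive.mem_U S).1 ha).1 ((CoFive.mem_U S).1 hb).1
      rcases F_cases (bil (π (a : G)) (π (b : G))) with e | e <;> rw [e] at h
      · left; rw [← map_mul, ← map_mul]; exact congrArg j (Subtype.ext (by simpa [zb_zero] using h))
      · right; rw [hzK, ← map_mul, ← map_mul, ← map_mul]
        exact congrArg j (Subtype.ext (by simpa [zb_one] using h))
    sq := by
      rintro x hx
      obtain ⟨a, ha, rfl⟩ := hQK.1 hx
      have h := S.sq _ ((CoFive.mem_U S).1 ha).1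
      rcases F_cases (CoT.q (π (a : G))) with e | e <;> rw [e] at h
      · left; rw [← map_mul, ← map_one j]; exact congrArg j (Subtype.ext (by simpa [zb_zero] using h))
      · right; rw [hzK, ← map_mul]; exact congrArg j (Subtype.ext (by simpa [zb_one] using h))
    self := by
      intro h hh hall
      obtain ⟨p, rfl⟩ := hfac h hh
      have hpM : (p : G) ∈ Cen Q π tv := mem_centralizer_iff.2 fun u hu => by
        have := hjinj (by simpa [map_mul] using hall _ (hQK.2 ⟨⟨u, Z.U_le_P hu⟩, hu, rfl⟩) :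
          j (p * ⟨u, Z.U_le_P hu⟩) = j (⟨u, Z.U_le_P hu⟩ * p))
        exact (congrArg Subtype.val this).symm
      have hpQ : (p : G) ∈ Q := (S.ker _ (Z.P_le_z p.2)).1 (congrFun (two_std.ext (f := ρ (p : G))
        (g := fun v => v) (S.rho_add (Z.P_le_z p.2)) (fun _ _ => rfl) (cen_fix S two_std hpM)
        (cen_fix S two_std.symm p.2)))
      exact hQK.2 ⟨p, (cen_inf_Q S two_std.symm).1 ⟨p.2, hpQ⟩, rfl⟩
    surj := (cen_hom_surj S two_std.symm hψ).comp e.symm.surjective
    ker := by
      intro h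
      show ψ (e.symm h) = 1 ↔ _
      obtain ⟨p, rfl⟩ := e.surjective h
      rw [MulEquiv.symm_apply_apply, hker]
      show _ ↔ j p ∈ QK
      rw [hQK]
      exact ⟨fun hQ => ⟨p, (cen_inf_Q S two_std.symm).1 ⟨p.2, hQ⟩, rfl⟩,
        fun ⟨p', hp', e'⟩ => hjinj e' ▸ ((CoFive.mem_U S).1 hp').1⟩
    nwc := by
      refine ⟨q ⟨n, hnC⟩, ?_⟩
      have hcj : q ⟨n, hnC⟩ * zK * (q ⟨n, hnC⟩)⁻¹ = j ⟨s, c.s_P⟩ := by
        rw [hzK, show j zP = q ⟨z, hzC⟩ from rfl, ← map_mul, ← map_inv, ← map_mul]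
        exact congrArg q (Subtype.ext c.nz)
      rw [hcj]
      exact ⟨hQK.2 ⟨_, c.s_mem, rfl⟩, fun e => c.X.sne (congrArg Subtype.val (hjinj (e.trans hzK)))⟩
    two := by
      refine ⟨j ⟨t, htP⟩, by rw [← map_mul, ← map_one j]; exact congrArg j (Subtype.ext htt),
        fun e => ?_, fun k e => ?_⟩
      · exact ht1 (congrArg Subtype.val (hjinj (e.trans (map_one j).symm)))
      · obtain ⟨x, rfl⟩ := QuotientGroup.mk'_surjective Bc k
        have hx : q (x * ⟨z, hzC⟩ * x⁻¹) = q (inclusion hPC ⟨t, htP⟩) := by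
          rw [map_mul, map_mul, map_inv]; exact e
        obtain ⟨i, hi⟩ := hbpow (mem_subgroupOf.1 ((QuotientGroup.eq (s := Bc)).1 hx.symm))
        have hi' : β ^ i = t⁻¹ * ((x : G) * z * (x : G)⁻¹) := hi
        have hxe : (x : G) * z * (x : G)⁻¹ = t * β ^ i := by rw [hi']; group
        have hsq : β ^ i * β ^ i = 1 := by
          have hc : Commute t (β ^ i) := Commute.pow_right (Z.beta_P htP) i
          calc β ^ i * β ^ i = (t * t) * (β ^ i * β ^ i) := by rw [htt, one_mul]
            _ = t * β ^ i * (t * β ^ i) := by rw [hc.mul_mul_mul_comm]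
            _ = (x : G) * (z * z) * (x : G)⁻¹ := by rw [← hxe]; group
            _ = 1 := by rw [S.loc.sq]; group
        have hi1 : β ^ i = 1 := eq_one_of_pow (m := 2) (n := 5) (by rw [pow_two, hsq])
          (by rw [← pow_mul, mul_comm, pow_mul, Z.beta_pow_five, one_pow]) (by norm_num)
        rw [hi1, mul_one] at hxe
        exact htz (isConj_iff.2 ⟨(x : G), hxe⟩) }
  -- the image of `x`
  set xP : Cen Q π sv := ⟨x, hxP⟩ with hxPdef
  set xK : K := j xP with hxK
  have hxK3 : orderOf xK = 3 := by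
    rw [hxK, orderOf_injective j hjinj, hxPdef, Subgroup.orderOf_mk, W.three]
  have h8 : 8 ∣ Nat.card (centralizer ({xK} : Set K)) := by
    let U8 : Subgroup G := U Q π tv ⊓ centralizer ({x} : Set G)
    have hle : U8 ≤ Cen Q π sv := inf_le_left.trans Z.U_le_P
    have hU8 : Nat.card U8 = 8 := by
      have h := CoFive.card_lift S fun v => CoFive.Perp tv v ∧ CoThree.Perp v
      rw [four_perp] at h
      rw [show (8 : ℕ) = 2 * 4 from rfl, ← h]
      refine Nat.card_congr (Equiv.subtypeEquivRight fun u => ?_)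
      show u ∈ U Q π tv ⊓ centralizer ({x} : Set G) ↔ _
      rw [mem_inf, CoFive.mem_U S, mem_centralizer_singleton_iff]
      constructor
      · rintro ⟨⟨h1, h2⟩, h3⟩
        exact ⟨h1, h2, (W.mem_fix h1).1 h3.symm⟩
      · rintro ⟨h1, h2, h3⟩
        exact ⟨⟨h1, h2⟩, ((W.mem_fix h1).2 h3).symm⟩
    let r : U8 →* centralizer ({xK} : Set K) := (j.comp (inclusion hle)).codRestrict _ fun u =>
      mem_centralizer_singleton_iff.2 (by
        show j (inclusion hle u) * j xP = j xP * j (inclusion hle u)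
        rw [← map_mul, ← map_mul]
        exact congrArg j (Subtype.ext (mem_centralizer_singleton_iff.1 u.2.2)))
    have hr : Function.Injective r := fun u v e =>
      inclusion_injective hle (hjinj (congrArg Subtype.val e))
    exact hU8 ▸ Subgroup.card_dvd_of_injective r hr
  have hd := hj_derived hHJ hxK3 h8
  -- preimages
  set M : Subgroup CB := (centralizer ({x} : Set G)).subgroupOf CB with hM
  have hx3 := W.pow_three
  have hβ5 : ∀ k : ℕ, (β ^ k) ^ 5 = 1 := fun k => by
    rw [← pow_mul, mul_comm, pow_mul, Z.beta_pow_five, one_pow]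
  have hle : centralizer ({xK} : Set K) ≤ M.map q := by
    intro h hh
    obtain ⟨y, rfl⟩ := QuotientGroup.mk'_surjective Bc h
    have hh' : q y * q (inclusion hPC xP) = q (inclusion hPC xP) * q y :=
      mem_centralizer_singleton_iff.1 hh
    obtain ⟨k, hk⟩ := hbpow (mem_subgroupOf.1 ((QuotientGroup.eq_one_iff
      (N := Bc) (y * inclusion hPC xP * y⁻¹ * (inclusion hPC xP)⁻¹)).1 (by
        show q (y * inclusion hPC xP * y⁻¹ * (inclusion hPC xP)⁻¹) = 1
        rw [map_mul, map_mul, map_mul, map_inv, map_inv, hh', mul_inv_cancel_right, mul_inv_cancel])))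
    have hk' : β ^ k = (y : G) * x * (y : G)⁻¹ * x⁻¹ := hk
    have hc : Commute (β ^ k) x := (Commute.pow_right (Z.beta_P hxP) k).symm
    have h1 : (β ^ k) ^ 3 = 1 := by
      calc (β ^ k) ^ 3 = (β ^ k) ^ 3 * x ^ 3 := by rw [hx3, mul_one]
        _ = (β ^ k * x) ^ 3 := (hc.mul_pow 3).symm
        _ = ((y : G) * x * (y : G)⁻¹) ^ 3 := by rw [hk', inv_mul_cancel_right]
        _ = 1 := by rw [conj_pow, hx3, mul_one, mul_inv_cancel]
    have h2 : β ^ k = 1 := CoFive.eq_one_of_pow h1 (hβ5 k) (by norm_num)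
    refine ⟨y, mem_subgroupOf.2 (mem_centralizer_singleton_iff.2 ?_), rfl⟩
    exact mul_inv_eq_iff_eq_mul.1 (mul_inv_eq_one.1 (hk'.symm.trans h2))
  obtain ⟨d, hd', hde⟩ : ∃ d ∈ ⁅M, M⁆, q d = xK := by
    have h := Subgroup.commutator_mono hle hle hd
    rw [← Subgroup.map_commutator] at h
    exact h
  have hdG : (d : G) ∈ ⁅centralizer ({x} : Set G), centralizer ({x} : Set G)⁆ := by
    have h := mem_map_of_mem CB.subtype hd'
    rw [Subgroup.map_commutator] at h
    exact Subgroup.commutator_mono (Subgroup.map_le_iff_le_comap.2 le_rfl)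
      (Subgroup.map_le_iff_le_comap.2 le_rfl) h
  obtain ⟨k, hk⟩ := hbpow (mem_subgroupOf.1 ((QuotientGroup.eq (s := Bc)).1
    (show q (inclusion hPC xP) = q d from hde.symm)))
  have hk' : β ^ k = x⁻¹ * (d : G) := hk
  have hc : Commute x (β ^ k) := Commute.pow_right (Z.beta_P hxP) k
  have hx10 : (d : G) ^ 10 = x := by
    rw [show (d : G) = x * β ^ k by rw [hk', mul_inv_cancel_left], hc.mul_pow,
      show 10 = 5 * 2 by rfl, pow_mul (β ^ k), hβ5, one_pow, mul_one,
      show 5 * 2 = 3 * 3 + 1 by rfl, pow_succ, pow_mul, hx3, one_pow, one_mul]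
  exact hx10 ▸ pow_mem hdG 10

/-- The element `x` lies in the commutator subgroup of its centraliser. -/
theorem exists_derived (S : Su z Q π ρ) {s₀ g₀ : G} (X₀ : Fr z Q π ρ s₀ g₀) :
    ∃ x, Fx z Q π ρ x ∧ x ∈ ⁅centralizer ({x} : Set G), centralizer ({x} : Set G)⁆ := by
  obtain ⟨β, Z⟩ := exists_five S
  obtain ⟨x, W, hxP⟩ := exists_fx_cen S
  obtain ⟨s, g, X, hs⟩ := X₀.exists_vec (CoFive.pent_sv.qz 0) (CoFive.pent_sv.ne_zero 0)
  obtain ⟨n, hnb, hnz, hns⟩ := Z.exists_n X hs
  exact ⟨x, W, derived_of_cfg ⟨Z, X, hs, hnb, hnz, hns⟩ W hxP⟩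

/-- The centraliser of `x` is quasisimple and its quotient is of Suzuki sporadic type. -/
theorem exists_quasisimple (S : Su z Q π ρ) {s₀ g₀ : G} (X₀ : Fr z Q π ρ s₀ g₀) :
    ∃ x, Fx z Q π ρ x ∧ Cfsg.IsQuasisimple ↥(centralizer ({x} : Set G)) ∧
      SuzLike (↥(centralizer ({x} : Set G)) ⧸ (zpowers x).subgroupOf (centralizer ({x} : Set G))) := by
  obtain ⟨x, W, hd⟩ := exists_derived S X₀
  obtain ⟨q0, -, -, ne0, -⟩ := CoT.base_facts
  obtain ⟨s, g, X, hs⟩ := X₀.exists_vec q0 ne0
  have hL := W.suzLike X hs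
  refine ⟨x, W, ?_, hL⟩
  obtain ⟨hsimp, hna, -⟩ := hL
  set H := centralizer ({x} : Set G) with hH
  set B := (zpowers x).subgroupOf H with hB
  haveI : IsSimpleGroup (H ⧸ B) := hsimp
  have hBd : B ≤ commutator H := by
    intro b hb
    have h : (b : G) ∈ ⁅H, H⁆ := zpowers_le.2 hd (mem_subgroupOf.1 hb)
    rw [← Subgroup.map_subtype_commutator] at h
    exact (mem_map_iff_mem H.subtype_injective).1 h
  have hperf : commutator H = ⊤ := by
    rcases (Subgroup.Normal.map (inferInstance : (commutator H).Normal) (QuotientGroup.mk' B)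
      (QuotientGroup.mk'_surjective B)).eq_bot_or_eq_top with e | e
    · exfalso
      refine hna ⟨⟨fun a b => ?_⟩⟩
      obtain ⟨a, rfl⟩ := QuotientGroup.mk'_surjective B a
      obtain ⟨b, rfl⟩ := QuotientGroup.mk'_surjective B b
      have h : QuotientGroup.mk' B ⁅a, b⁆ ∈ (⊥ : Subgroup (H ⧸ B)) :=
        e ▸ mem_map_of_mem _ (Subgroup.commutator_mem_commutator (mem_top a) (mem_top b))
      rw [mem_bot, map_commutatorElement] at h
      exact commutatorElement_eq_one_iff_mul_comm.1 h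
    · refine eq_top_iff.2 fun a _ => ?_
      obtain ⟨b, hb, hab⟩ : QuotientGroup.mk' B a ∈ (commutator H).map (QuotientGroup.mk' B) := e ▸ mem_top _
      have h : b⁻¹ * a ∈ B := (QuotientGroup.eq (s := B)).1 hab
      simpa using mul_mem hb (hBd h)
  have hcen : center H = B := by
    refine le_antisymm (fun a ha => ?_) fun b hb => Subgroup.mem_center_iff.2 fun a => Subtype.ext ?_
    · rcases (Subgroup.Normal.map (inferInstance : (center H).Normal) (QuotientGroup.mk' B)
        (QuotientGroup.mk'_surjective B)).eq_bot_or_eq_top with e | e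
      · exact (QuotientGroup.eq_one_iff a).1 (mem_bot.1 (e ▸ mem_map_of_mem (QuotientGroup.mk' B) ha))
      · exfalso
        refine hna ⟨⟨fun u v => ?_⟩⟩
        obtain ⟨v, rfl⟩ := QuotientGroup.mk'_surjective B v
        obtain ⟨u', hu', rfl⟩ : u ∈ (center H).map (QuotientGroup.mk' B) := e ▸ mem_top _
        rw [← map_mul, ← map_mul, Subgroup.mem_center_iff.1 hu' v]
    · obtain ⟨i, hi⟩ := mem_zpowers_iff.1 (mem_subgroupOf.1 hb)
      show (a : G) * b = b * a
      rw [← hi]
      exact (Commute.zpow_right (mem_centralizer_singleton_iff.1 a.2) i).eq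
  refine ⟨⟨hperf⟩, ?_⟩
  let e := QuotientGroup.quotientMulEquivOfEq hcen
  haveI : Nontrivial (H ⧸ center H) := e.toEquiv.nontrivial
  exact IsSimpleGroup.isSimpleGroup_of_surjective e.symm.toMonoidHom e.symm.surjective

end Cfsg.Agent.CoThree
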