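import Cfsg.Agent.Lib.SuzT.Image
import Cfsg.Agent.Lib.Small.UFourTwo.Iso
import Cfsg.Agent.S0303

/-!
The commutator subgroup of the six-dimensional elliptic isometry group is simple and irreducible.
-/

set_option autoImplicit false
set_option linter.style.haveILetI false
set_option maxRecDepth 20000

namespace Cfsg.Agent.CoThree

local notation "U6" => SuzT.V

theorem hab6 : ∀ z₁ z₂ : ZMod 2, z₁ ^ 2 + 1 * z₁ * z₂ + 1 * z₂ ^ 2 = 0 → z₁ = 0 ∧ z₂ = 0 := SuzT.aniso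

/-- The group is simple. -/
theorem isSimpleGroup_Om : IsSimpleGroup ↥SuzT.Om ∧ ¬ IsMulCommutative ↥SuzT.Om := by
  haveI : Fact (Nat.Prime 2) := ⟨Nat.prime_two⟩
  haveI : Fintype (GaloisField 2 2) := Fintype.ofFinite _
  have hL : Fintype.card (GaloisField 2 2) = 4 := by
    rw [← Nat.card_eq_fintype_card, GaloisField.card 2 2 two_ne_zero]; rfl
  obtain ⟨i1⟩ := Agent.S0303.result (F := ZMod 2) (q := 2) (ZMod.card 2) (K := GaloisField 2 2)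
    (by rw [hL]; rfl) (1 : ZMod 2) 1 hab6
  have hsimp : IsSimpleGroup (Cfsg.PSU 4 (GaloisField 2 2) 2) := (Agent.UFourTwo.card_psu hL).2.1
  have hP : Nat.card (Cfsg.POmega (ZMod 2) SuzT.q6) = 25920 :=
    (Nat.card_congr i1.toEquiv).trans (Agent.UFourTwo.card_psu hL).1
  have hc : Subgroup.center ↥SuzT.Om = ⊥ := by
    refine Subgroup.eq_bot_of_card_eq _ ?_
    have h := Subgroup.card_eq_card_quotient_mul_card_subgroup (Subgroup.center ↥SuzT.Om)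
    rw [SuzT.card_Om, hP] at h
    omega
  let e : ↥SuzT.Om ≃* Cfsg.PSU 4 (GaloisField 2 2) 2 :=
    ((QuotientGroup.quotientMulEquivOfEq hc).trans QuotientGroup.quotientBot).symm.trans i1
  haveI : Nontrivial ↥SuzT.Om := Finite.one_lt_card_iff_nontrivial.1 (by rw [SuzT.card_Om]; norm_num)
  refine ⟨e.isSimpleGroup_congr.2 hsimp, fun h => ?_⟩
  have htop : Subgroup.center ↥SuzT.Om = ⊤ :=
    eq_top_iff.2 fun x _ => Subgroup.mem_center_iff.2 fun y => h.is_comm.comm y x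
  rw [hc] at htop
  exact bot_ne_top htop

theorem push_sing : ∀ v : U6, v ≠ 0 → ∃ a : U6, SuzT.q a = 1 ∧ ∃ b : U6, SuzT.q b = 1 ∧
    SuzT.q (SuzT.tr a (SuzT.tr b v) + v) = 0 ∧ SuzT.tr a (SuzT.tr b v) + v ≠ 0 := by
  decide +kernel

theorem sing_pairs : ∀ v : U6, ∃ a : U6, SuzT.q a = 0 ∧ ∃ b : U6, SuzT.q b = 0 ∧ a + b = v := by
  decide +kernel

theorem six_facts : SuzT.q SuzT.e0 = 0 ∧ SuzT.e0 ≠ 0 ∧ SuzT.q SuzT.e1 = 0 ∧ SuzT.e1 ≠ 0 ∧
    SuzT.e1 ≠ SuzT.e0 ∧ SuzT.bil SuzT.e0 SuzT.e1 = 0 ∧ SuzT.bil SuzT.e0 SuzT.f0 = 1 := by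
  decide +kernel

/-- The singular vectors form one orbit. -/
theorem sing_orbit {d w : U6} (hd : SuzT.q d = 0) (hd0 : d ≠ 0) (hw : SuzT.q w = 0) (hw0 : w ≠ 0) :
    ∃ g : SuzT.O6, g ∈ SuzT.Om ∧ SuzT.app g d = w := by
  obtain ⟨a, ha, b, hb, h1⟩ := SuzT.move_sing d hd hd0
  obtain ⟨a', ha', b', hb', h2⟩ := SuzT.move_sing w hw hw0
  obtain ⟨g, hg, hg'⟩ := (SuzT.isOm_tr_tr ha' hb').comp (SuzT.isOm_tr_tr hb ha)
  refine ⟨g, hg, ?_⟩
  rw [hg']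
  show SuzT.tr a' (SuzT.tr b' (SuzT.tr b (SuzT.tr a d))) = w
  rw [← h1, SuzT.tr_tr a _ ha, SuzT.tr_tr b _ hb, h2]

/-- An invariant additive set with a non-zero element is everything. -/
theorem irreducible {T : U6 → Prop} (h0 : T 0) (hadd : ∀ u w, T u → T w → T (u + w))
    (hinv : ∀ g : SuzT.O6, g ∈ SuzT.Om → ∀ u, T u → T (SuzT.app g u)) {v : U6} (hv : T v) (hv0 : v ≠ 0)
    (u : U6) : T u := by
  obtain ⟨a, ha, b, hb, hq, hne⟩ := push_sing v hv0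
  obtain ⟨g, hg, hg'⟩ := SuzT.isOm_tr_tr ha hb
  have hd := hadd _ _ (hinv g hg v hv) hv
  rw [hg'] at hd
  have hsing : ∀ w : U6, SuzT.q w = 0 → T w := fun w hw => by
    rcases eq_or_ne w 0 with rfl | hw0
    · exact h0
    · obtain ⟨k, hk, e⟩ := sing_orbit hq hne hw hw0
      exact e ▸ hinv k hk _ hd
  obtain ⟨a', ha', b', hb', rfl⟩ := sing_pairs u
  exact hadd _ _ (hsing _ ha') (hsing _ hb')

end Cfsg.Agent.CoThree
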