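import Cfsg.Agent.Lib.CoThree.Swap
import Cfsg.Agent.Lib.CoThree.Six
import Cfsg.Agent.S5436

/-!
The centraliser of `x` modulo its group satisfies the hypothesis of Suzuki sporadic type and is simple.
-/

set_option autoImplicit false
set_option linter.style.haveILetI false
set_option linter.unusedSectionVars false
set_option maxRecDepth 20000
set_option synthInstance.maxSize 4000
set_option synthInstance.maxHeartbeats 400000

namespace Cfsg.Agent.CoThree

open Cfsg.Agent.CoT Subgroup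
open Cfsg.Agent.CoFive (eq_one_of_pow four_pow)
open scoped commutatorElement

local notation "F" => ZMod 2

/-- The hypothesis of Suzuki sporadic type on a simple group. -/
def SuzLike (S : Type*) [Group S] : Prop :=
  IsSimpleGroup S ∧ ¬ IsMulCommutative S ∧
    ∃ z : S, orderOf z = 2 ∧ ∃ (Q : Subgroup (Subgroup.centralizer ({z} : Set S))) (_ : Q.Normal),
      Cfsg.generalizedFittingSubgroup (Subgroup.centralizer ({z} : Set S)) = Q ∧ Cfsg.IsExtraspecial 2 Q ∧
      Nat.card Q = 2 ^ 7 ∧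
      Nonempty ((Subgroup.centralizer ({z} : Set S)) ⧸ Q ≃*
        Cfsg.Omega (ZMod 2) (Cfsg.quadFormMinus 2 (ZMod 2) 1 1)) ∧
      ∃ g : S, (∃ hq : g * z * g⁻¹ ∈ Subgroup.centralizer ({z} : Set S),
        (⟨g * z * g⁻¹, hq⟩ : Subgroup.centralizer ({z} : Set S)) ∈ Q) ∧ g * z * g⁻¹ ≠ z

/-- A normal self-centralising 2-subgroup with non-abelian simple quotient is the generalised Fitting
subgroup. -/
theorem fstar_eq {H : Type*} [Group H] [Finite H] {Q : Subgroup H} [Q.Normal] (hQ : IsPGroup 2 Q)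
    (hC : centralizer (Q : Set H) ≤ Q) (hs : IsSimpleGroup (H ⧸ Q)) (hna : ¬ IsMulCommutative (H ⧸ Q)) :
    Cfsg.generalizedFittingSubgroup H = Q := by
  haveI : Fact (Nat.Prime 2) := ⟨Nat.prime_two⟩
  haveI := hs
  haveI : Group.IsNilpotent Q := hQ.isNilpotent
  refine le_antisymm (sup_le ?_ ?_) (le_sup_of_le_right (le_sSup ⟨inferInstance, inferInstance⟩))
  · refine Components.layer_le_iff.2 fun M hM => ?_
    rcases Components.component_le_or_commute hM (inferInstance : Q.Normal).isSubnormal with h | h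
    · exact h
    · exact (Subgroup.commutator_eq_bot_iff_le_centralizer.1 h).trans hC
  · refine sSup_le ?_
    rintro R ⟨hR, hnil⟩
    haveI := hR
    haveI := hnil
    haveI hn : (R.map (QuotientGroup.mk' Q)).Normal :=
      Subgroup.Normal.map hR _ (QuotientGroup.mk'_surjective Q)
    rcases hn.eq_bot_or_eq_top with e | e
    · intro r hr
      refine (QuotientGroup.eq_one_iff r).1 (mem_bot.1 (?_ : QuotientGroup.mk' Q r ∈ (⊥ : Subgroup (H ⧸ Q))))
      rw [← e]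
      exact mem_map_of_mem _ hr
    · exfalso
      refine hna ?_
      haveI : Group.IsNilpotent (H ⧸ Q) := by
        let f : R →* H ⧸ Q := (QuotientGroup.mk' Q).comp R.subtype
        have hf : Function.Surjective f := fun y => by
          obtain ⟨r, hr, rfl⟩ : y ∈ R.map (QuotientGroup.mk' Q) := e ▸ mem_top y
          exact ⟨⟨r, hr⟩, rfl⟩
        exact Group.nilpotent_of_surjective f hf
      exact ⟨⟨fun a b => IsSimpleGroup.comm_iff_isSolvable.2 inferInstance a b⟩⟩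

theorem perp_nondeg : ∀ v : V, Perp v → v ≠ 0 → ∃ w : V, Perp w ∧ bil v w = 1 := by decide +kernel

theorem perp_pair : Perp e0 ∧ Perp f0 ∧ bil f0 e0 = 1 ∧ q (io SuzT.e1) = 0 ∧
    bil (io SuzT.e1) e0 = 0 ∧ io SuzT.e1 ≠ 0 ∧ io SuzT.e1 ≠ e0 := by decide +kernel

variable {G : Type*} [Group G] [Finite G] {z : G} {Q : Subgroup G} {π : G → V} {ρ : G → V → V}
  {x : G}

instance three_group_normal (b : G) : ((zpowers b).subgroupOf (centralizer ({b} : Set G))).Normal :=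
  ⟨fun a ha y => by
    rw [mem_subgroupOf] at ha ⊢
    obtain ⟨i, hi⟩ := mem_zpowers_iff.1 ha
    have h : Commute (y : G) (a : G) := hi ▸ Commute.zpow_right (mem_centralizer_singleton_iff.1 y.2) i
    rw [Subgroup.coe_mul, Subgroup.coe_mul, InvMemClass.coe_inv, h.eq, mul_inv_cancel_right]
    exact ha⟩

namespace Fx

variable (Z : Fx z Q π ρ x) {s g : G} (X : Fr z Q π ρ s g) (hs : π s = e0)
include Z X hs

theorem suzLike : SuzLike (↥(centralizer ({x} : Set G)) ⧸ (zpowers x).subgroupOf (centralizer ({x} : Set G))) := by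
  classical
  haveI : Fact (Nat.Prime 2) := ⟨Nat.prime_two⟩
  have S := Z.S
  set CB := centralizer ({x} : Set G) with hCB
  set Bc := (zpowers x).subgroupOf CB with hBc
  let K := CB ⧸ Bc
  let q' : CB →* K := QuotientGroup.mk' Bc
  let j : Z.cen →* K := q'.comp (inclusion inf_le_right)
  have hxpow : ∀ {a : G}, a ∈ zpowers x → ∃ k : ℕ, x ^ k = a := fun ha => by
    obtain ⟨k, -, hk⟩ := Finset.mem_image.1 ((isOfFinOrder_of_finite x).mem_zpowers_iff_mem_range_orderOf.1 ha)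
    exact ⟨k, hk⟩
  have hjker : ∀ c, j c = 1 ↔ ∃ k : ℕ, x ^ k = (c : G) := fun c => by
    show ((inclusion inf_le_right c : CB) : K) = 1 ↔ _
    rw [QuotientGroup.eq_one_iff]
    exact ⟨fun h => hxpow (mem_subgroupOf.1 h), fun ⟨k, hk⟩ => mem_subgroupOf.2 (show (c : G) ∈ zpowers x from
      hk ▸ Subgroup.npow_mem_zpowers x k)⟩
  have hQdisj : ∀ {a : G}, a ∈ Q → ∀ k : ℕ, x ^ k = a → a = 1 := fun {a} ha k hk =>
    eq_one_of_pow (four_pow S ha) (by subst hk; rw [← pow_mul, mul_comm, pow_mul, Z.pow_three, one_pow])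
      (by norm_num)
  have hzc : z ∈ Z.cen := Z.mem_cen rfl Z.hz.symm
  set zC : Z.cen := ⟨z, hzc⟩ with hzC
  set zK : K := j zC with hzK
  have hzK1 : zK ≠ 1 := fun e => by
    obtain ⟨k, hk⟩ := (hjker _).1 e
    exact S.loc.ne_one (hQdisj S.loc.mem k hk)
  have hzz : zK * zK = 1 := by
    rw [hzK, ← map_mul, show zC * zC = 1 from Subtype.ext S.loc.sq, map_one]
  have hord : orderOf zK = 2 := orderOf_eq_prime (by rw [pow_two, hzz]) hzK1
  have hfac : ∀ h : K, h * zK = zK * h → ∃ c, j c = h := by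
    intro h hh
    obtain ⟨y, rfl⟩ := QuotientGroup.mk'_surjective Bc h
    have hzB : z ∈ CB := hzc.2
    have h1 : y * ⟨z, hzB⟩ * y⁻¹ * (⟨z, hzB⟩ : CB)⁻¹ ∈ Bc := by
      refine (QuotientGroup.eq_one_iff _).1 ?_
      show q' (y * ⟨z, hzB⟩ * y⁻¹ * (⟨z, hzB⟩ : CB)⁻¹) = 1
      rw [map_mul, map_mul, map_mul, map_inv, map_inv, show q' ⟨z, hzB⟩ = zK from rfl]
      show q' y * zK * (q' y)⁻¹ * zK⁻¹ = 1
      rw [show q' y * zK = zK * q' y from hh, mul_inv_cancel_right, mul_inv_cancel]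
    obtain ⟨k, hk⟩ := hxpow (mem_subgroupOf.1 h1)
    have hk' : (y : G) * z * (y : G)⁻¹ = x ^ k * z := by
      rw [show x ^ k = (y : G) * z * (y : G)⁻¹ * z⁻¹ from hk]; group
    have hsq : x ^ k * x ^ k = 1 := by
      calc x ^ k * x ^ k = x ^ k * x ^ k * (z * z) := by rw [S.loc.sq, mul_one]
        _ = x ^ k * z * (x ^ k * z) := (show Commute (x ^ k) z from Z.x_z k).mul_mul_mul_comm _ _
        _ = (y : G) * (z * z) * (y : G)⁻¹ := by rw [← hk']; group
        _ = 1 := by rw [S.loc.sq]; group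
    have hk1 : x ^ k = 1 := eq_one_of_pow (m := 2) (n := 3) (by rw [pow_two, hsq])
      (by rw [← pow_mul, mul_comm, pow_mul, Z.pow_three, one_pow]) (by norm_num)
    rw [hk1, one_mul, mul_inv_eq_iff_eq_mul] at hk'
    exact ⟨⟨y, Z.mem_cen hk' (mem_centralizer_singleton_iff.1 y.2)⟩, rfl⟩
  have hjC : ∀ c, j c ∈ centralizer ({zK} : Set K) := fun c => mem_centralizer_singleton_iff.2 (by
    rw [hzK, ← map_mul, ← map_mul]
    exact congrArg j (Subtype.ext (Z.cen_z c.2)))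
  let J : Z.cen →* centralizer ({zK} : Set K) := j.codRestrict _ hjC
  have hJs : Function.Surjective J := fun h => by
    obtain ⟨c, hc⟩ := hfac h (mem_centralizer_singleton_iff.1 h.2)
    exact ⟨c, Subtype.ext hc⟩
  have hJker : ∀ c, J c = 1 ↔ ∃ k : ℕ, x ^ k = (c : G) := fun c => by
    rw [← hjker]
    exact ⟨fun e => congrArg Subtype.val e, fun e => Subtype.ext e⟩
  obtain ⟨ψ, hψ, hψs, hψk⟩ := Z.exists_psi
  have h1U : (1 : G) ∈ Q ⊓ centralizer ({x} : Set G) := one_mem _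
  have hle : J.ker ≤ ψ.ker := fun c hc => by
    obtain ⟨k, hk⟩ := (hJker c).1 hc
    exact (hψk c).2 ⟨1, h1U, k, by rw [one_mul, hk]⟩
  let φ : centralizer ({zK} : Set K) →* SuzT.Om := J.liftOfSurjective hJs ⟨ψ, hle⟩
  have hφ : ∀ c, φ (J c) = ψ c := fun c => MonoidHom.liftOfRightInverse_comp_apply J _ _ ⟨ψ, hle⟩ c
  have hφs : Function.Surjective φ := fun w => by
    obtain ⟨c, rfl⟩ := hψs w
    exact ⟨J c, hφ c⟩
  set Uc : Subgroup Z.cen := (Q ⊓ centralizer ({x} : Set G)).subgroupOf Z.cen with hUc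
  let QK : Subgroup (centralizer ({zK} : Set K)) := Uc.map J
  have hUle : Q ⊓ centralizer ({x} : Set G) ≤ Z.cen := fun u hu =>
    Z.mem_cen (S.Qz hu.1) (mem_centralizer_singleton_iff.1 hu.2)
  have hQK : ∀ {h}, h ∈ QK ↔ ∃ c : Z.cen, (c : G) ∈ Q ⊓ centralizer ({x} : Set G) ∧ J c = h := Iff.rfl
  have hker : φ.ker = QK := by
    ext h
    obtain ⟨c, rfl⟩ := hJs h
    rw [MonoidHom.mem_ker, hφ, hψk, hQK]
    constructor
    · rintro ⟨u, hu, k, e⟩
      refine ⟨⟨u, hUle hu⟩, hu, ?_⟩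
      have hm : x ^ k ∈ Z.cen := Z.mem_cen (Z.x_z k) ((Commute.refl x).pow_left k).eq
      rw [show c = ⟨u, hUle hu⟩ * ⟨x ^ k, hm⟩ from Subtype.ext e, map_mul,
        (hJker ⟨x ^ k, hm⟩).2 ⟨k, rfl⟩, mul_one]
    · rintro ⟨c', hc', e⟩
      obtain ⟨k, hk⟩ := (hJker (c'⁻¹ * c)).1 (by rw [map_mul, map_inv, e, inv_mul_cancel])
      exact ⟨c', hc', k, by rw [hk, Subgroup.coe_mul, InvMemClass.coe_inv, mul_inv_cancel_left]⟩
  haveI hQn : QK.Normal := hker ▸ φ.normal_ker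
  have hJinj : ∀ a b : Z.cen, (a : G) ∈ Q → (b : G) ∈ Q → J a = J b → a = b := fun a b ha hb e => by
    obtain ⟨k, hk⟩ := (hJker (a⁻¹ * b)).1 (by rw [map_mul, map_inv, e, inv_mul_cancel])
    exact Subtype.ext (inv_mul_eq_one.1 (hQdisj (mul_mem (inv_mem ha) hb) k hk))
  let eU : ↥Uc ≃* ↥QK := MulEquiv.ofBijective
    ((J.comp Uc.subtype).codRestrict QK fun c => mem_map_of_mem J c.2)
    ⟨fun a b e => Subtype.ext (hJinj _ _ (mem_subgroupOf.1 a.2).1 (mem_subgroupOf.1 b.2).1 (congrArg Subtype.val e)),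
      fun h => by obtain ⟨c, hc, e⟩ := h.2; exact ⟨⟨c, hc⟩, Subtype.ext e⟩⟩
  have hcard : Nat.card QK = 128 := by
    rw [← Nat.card_congr eU.toEquiv, Nat.card_congr (Subgroup.subgroupOfEquivOfLe hUle).toEquiv, Z.card_U]
  have hxs : Cfsg.IsExtraspecial 2 QK := by
    refine Qd.isExtraspecial_congr ((Subgroup.subgroupOfEquivOfLe hUle).symm.trans eU).symm ?_
    set U := Q ⊓ centralizer ({x} : Set G) with hU
    have hzU : z ∈ U := ⟨S.loc.mem, mem_centralizer_singleton_iff.2 Z.hz.symm⟩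
    have hzp : ∀ a : U, a ∈ zpowers (⟨z, hzU⟩ : U) ↔ (a : G) = 1 ∨ (a : G) = z := fun a => by
      rw [← S.loc.mem_zpowers_iff, mem_zpowers_iff, mem_zpowers_iff]
      exact exists_congr fun i => by rw [Subtype.ext_iff, SubgroupClass.coe_zpow]
    refine LargeExtra.isExtraspecial_of (z := (⟨z, hzU⟩ : U))
      (IsPGroup.of_card (n := 7) (by rw [hU, Z.card_U]; norm_num)) ?_ ?_ ?_ ?_ ?_
    · rw [Subgroup.orderOf_mk]; exact S.loc.orderOf_eq
    · intro a
      rw [hzp]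
      constructor
      · intro h
        refine (S.pi_eq _ a.2.1).1 ?_
        by_contra hne
        obtain ⟨w, hw, hb⟩ := perp_nondeg _ (Z.mem_U.1 a.2).2 hne
        obtain ⟨b, hb', rfl⟩ := S.pi_surj w
        have := congrArg Subtype.val (h ⟨b, Z.mem_U.2 ⟨hb', hw⟩⟩)
        rw [Subgroup.coe_mul, Subgroup.coe_mul, S.comm_iff a.2.1 hb', hb] at this
        exact one_ne_zero this
      · intro h b
        refine Subtype.ext ?_
        rcases h with e | e <;> simp only [Subgroup.coe_mul, e, one_mul, mul_one]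
        exact (S.Qz b.2.1).symm
    · intro a b
      rw [hzp]
      have h := S.rule a.2.1 b.2.1
      have e : ((⁅a, b⁆ : U) : G) = zb z (bil (π (a : G)) (π (b : G))) := by
        rw [commutatorElement_def]
        push_cast
        have hc : Commute (a : G) (zb z (bil (π (a : G)) (π (b : G)))) := zb_comm (S.Qz a.2.1) _
        have hc' : Commute (b : G) (zb z (bil (π (a : G)) (π (b : G)))) := zb_comm (S.Qz b.2.1) _
        rw [h, mul_assoc (b : G) a, hc.eq]
        generalize zb z (bil (π (a : G)) (π (b : G))) = c at hc'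
        rw [show (b : G) * (c * a) * (a : G)⁻¹ * (b : G)⁻¹ = b * c * (b : G)⁻¹ by group, hc'.eq,
          mul_inv_cancel_right]
      rw [e]
      rcases F_cases (bil (π (a : G)) (π (b : G))) with e' | e' <;> rw [e']
      exacts [Or.inl (zb_zero _), Or.inr (zb_one _)]
    · intro a
      rw [hzp, Subgroup.coe_pow, pow_two, S.sq _ a.2.1]
      rcases F_cases (CoT.q (π (a : G))) with e' | e' <;> rw [e']
      exacts [Or.inl (zb_zero _), Or.inr (zb_one _)]
    · obtain ⟨p1, p2, p3, -⟩ := perp_pair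
      obtain ⟨a, ha, ea⟩ := S.pi_surj f0
      obtain ⟨b, hb, eb⟩ := S.pi_surj e0
      refine ⟨⟨a, Z.mem_U.2 ⟨ha, ea ▸ p2⟩⟩, ⟨b, Z.mem_U.2 ⟨hb, eb ▸ p1⟩⟩, fun h => ?_⟩
      have := (S.comm_iff ha hb).1 (congrArg Subtype.val h)
      rw [ea, eb, p3] at this
      exact one_ne_zero this
  -- quotient
  let eQ : centralizer ({zK} : Set K) ⧸ QK ≃* SuzT.Om :=
    (QuotientGroup.quotientMulEquivOfEq hker.symm).trans (QuotientGroup.quotientKerEquivOfSurjective φ hφs)
  obtain ⟨hOs, hOn⟩ := isSimpleGroup_Om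
  have hsimp : IsSimpleGroup (centralizer ({zK} : Set K) ⧸ QK) := eQ.isSimpleGroup_congr.2 hOs
  have hna : ¬ IsMulCommutative (centralizer ({zK} : Set K) ⧸ QK) := fun h => hOn ⟨⟨fun a b => by
    obtain ⟨a, rfl⟩ := eQ.surjective a
    obtain ⟨b, rfl⟩ := eQ.surjective b
    rw [← map_mul, ← map_mul, h.is_comm.comm]⟩⟩
  have hcen : centralizer (QK : Set (centralizer ({zK} : Set K))) ≤ QK := by
    intro h hh
    obtain ⟨c, rfl⟩ := hJs h
    rw [← hker, MonoidHom.mem_ker, hφ]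
    refine Subtype.ext (SuzT.app_inj (funext fun w => io_inj ?_))
    rw [← hψ, Subgroup.coe_one, SuzT.app_one]
    obtain ⟨u, hu, e⟩ := S.pi_surj (io w)
    have huU : u ∈ Q ⊓ centralizer ({x} : Set G) := Z.mem_U.2 ⟨hu, e ▸ io_perp w⟩
    have hcc := mem_centralizer_iff.1 hh (J ⟨u, hUle huU⟩) (hQK.2 ⟨_, huU, rfl⟩)
    have heq := hJinj (c * ⟨u, hUle huU⟩ * c⁻¹) ⟨u, hUle huU⟩ (S.conj_mem (Z.cen_z c.2) hu) hu
      (by rw [map_mul, map_mul, map_inv, ← hcc, mul_inv_cancel_right])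
    have h2 : (c : G) * u * (c : G)⁻¹ = u := congrArg Subtype.val heq
    rw [← e, ← S.conj c (Z.cen_z c.2) u hu, h2]
  have hF : Cfsg.generalizedFittingSubgroup (centralizer ({zK} : Set K)) = QK :=
    fstar_eq (IsPGroup.of_card (n := 7) (by rw [hcard]; norm_num)) hcen hsimp hna
  -- conjugates of the central involution
  obtain ⟨n, hnx, hnz, hnQ⟩ := Z.exists_n X hs
  obtain ⟨p1, p2, p3, p4, p5, p6, p7⟩ := perp_pair
  have hsU : s ∈ Q ⊓ centralizer ({x} : Set G) := Z.mem_U.2 ⟨X.sQ, hs ▸ p1⟩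
  have hnC : n ∈ CB := mem_centralizer_singleton_iff.2 hnx
  have hsK : q' ⟨n, hnC⟩ * zK * (q' ⟨n, hnC⟩)⁻¹ = j ⟨s, hUle hsU⟩ := by
    rw [hzK, show j zC = q' ⟨z, hzc.2⟩ from rfl, ← map_mul, ← map_inv, ← map_mul]
    exact congrArg q' (Subtype.ext hnz)
  have hsne : j ⟨s, hUle hsU⟩ ≠ zK := fun e => X.sne (congrArg Subtype.val
    (hJinj ⟨s, hUle hsU⟩ zC X.sQ S.loc.mem (Subtype.ext e)))
  have hnwc : ∃ g : K, (∃ hq : g * zK * g⁻¹ ∈ centralizer ({zK} : Set K),
      (⟨g * zK * g⁻¹, hq⟩ : centralizer ({zK} : Set K)) ∈ QK) ∧ g * zK * g⁻¹ ≠ zK := by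
    refine ⟨q' ⟨n, hnC⟩, ⟨hsK.symm ▸ hjC _, hQK.2 ⟨_, hsU, Subtype.ext hsK.symm⟩⟩, ?_⟩
    rw [hsK]; exact hsne
  -- a conjugate outside
  have hwcl : closure {h : centralizer ({zK} : Set K) | IsConj zK (h : K)} ≠ QK := by
    obtain ⟨b, hb, hbv⟩ := X.exists_B (v := io SuzT.e1) (by rw [hs]; exact p5)
    have hxb : x * b = b * x := Z.half_comm X hs hb hbv (io_perp _)
    obtain ⟨hbz, -⟩ := X.B_comm hb
    have hbQ : b ∉ Q := fun hQ => by
      have h1 := X.vec_unique hbv (X.vec_E ⟨hQ, hb.1⟩)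
      rw [hs] at h1
      rcases h1 with h | h
      · exact p6 h
      · exact p7 (by rw [h, zero_add])
    have hb2 : b * b = 1 := by rw [X.B_sq hb hbv, p4, zb_zero]
    set a := n⁻¹ * b * n with ha
    have haQ : a ∈ Q := hnQ b hb.1
    have hxn : Commute x n := (show Commute n x from hnx).symm
    have hax : x * a = a * x := ((hxn.inv_right.mul_right hxb).mul_right hxn).eq
    have ha2 : a * a = 1 := by
      rw [ha, show n⁻¹ * b * n * (n⁻¹ * b * n) = n⁻¹ * (b * b) * n by group, hb2]; group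
    have haP : Perp (π a) := (Z.mem_fix haQ).1 hax
    have hq : SuzT.q (pp (π a)) = 0 := by rw [← io_q, (io_pp _ haP).1]; exact S.sing_of haQ ha2
    have hne : pp (π a) ≠ 0 := fun e => by
      have e' : π a = 0 := by rw [← (io_pp _ haP).1, e, io_zero]
      have hb' : b = n * a * n⁻¹ := by rw [ha]; group
      rcases (S.pi_eq a haQ).1 e' with h | h
      · exact hbQ (by rw [hb', h, mul_one, mul_inv_cancel]; exact one_mem _)
      · exact hbQ (by rw [hb', h, hnz]; exact X.sQ)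
    obtain ⟨w, hw, hwe⟩ := sing_orbit six_facts.1 six_facts.2.1 hq hne
    obtain ⟨d, hd⟩ := hψs ⟨w, hw⟩
    have hdz := Z.cen_z d.2
    have hρ : ρ (d : G) (π s) = π a := by
      have := hψ d SuzT.e0
      rw [hd, plane_facts.2.2.2.2.2.2.2.2.2.2] at this
      rw [hs, this]
      exact (congrArg io hwe).trans (io_pp _ haP).1
    obtain ⟨k, hkC, hk⟩ : ∃ k ∈ CB, k * z * k⁻¹ = a := by
      have hds := S.conj_mem hdz X.sQ
      have hdn : (d : G) * n ∈ CB := mul_mem d.2.2 hnC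
      rcases S.eq_of_pi haQ hds (by rw [S.conj _ hdz s X.sQ, hρ]) with e | e
      · exact ⟨(d : G) * n, hdn, by rw [e, ← hnz]; group⟩
      · obtain ⟨y, hy, ey⟩ := S.pi_surj f0
        have hyU : y ∈ Q ⊓ centralizer ({x} : Set G) := Z.mem_U.2 ⟨hy, ey ▸ p2⟩
        refine ⟨(d : G) * y * n, mul_mem (mul_mem d.2.2 hyU.2) hnC, ?_⟩
        have hys : y * s * y⁻¹ = s * z := X.y_spec hy (by rw [ey, hs, p3])
        calc (d : G) * y * n * z * ((d : G) * y * n)⁻¹
            = (d : G) * (y * (n * z * n⁻¹) * y⁻¹) * (d : G)⁻¹ := by group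
          _ = (d : G) * s * (d : G)⁻¹ * ((d : G) * z * (d : G)⁻¹) := by rw [hnz, hys]; group
          _ = a := by rw [S.zpi hdz, e]
    have hbc : b ∈ Z.cen := Z.mem_cen hbz hxb.symm
    have hmem : J ⟨b, hbc⟩ ∈ closure {h : centralizer ({zK} : Set K) | IsConj zK (h : K)} := by
      refine subset_closure (isConj_iff.2 ⟨q' (⟨n, hnC⟩ * ⟨k, hkC⟩), ?_⟩)
      show q' (⟨n, hnC⟩ * ⟨k, hkC⟩) * q' ⟨z, hzc.2⟩ * (q' (⟨n, hnC⟩ * ⟨k, hkC⟩))⁻¹ = q' ⟨b, hbc.2⟩
      erw [← map_inv, ← map_mul, ← map_mul]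
      refine congrArg q' (Subtype.ext ?_)
      show n * k * z * (n * k)⁻¹ = b
      rw [show n * k * z * (n * k)⁻¹ = n * (k * z * k⁻¹) * n⁻¹ by group, hk, ha]; group
    intro e
    obtain ⟨c, hc, hcb⟩ := hQK.1 (e ▸ hmem)
    obtain ⟨k', hk'⟩ := (hJker (c⁻¹ * ⟨b, hbc⟩)).1 (by rw [map_mul, map_inv, hcb, inv_mul_cancel])
    have hk'' : x ^ k' = (c : G)⁻¹ * b := hk'
    have h1 : x ^ (k' * 2) = 1 := by
      have hcx : Commute (c : G) (x ^ k') := (show Commute (c : G) x from Z.cen_x c.2).pow_right k'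
      have hb3 : b = (c : G) * x ^ k' := by rw [hk'', mul_inv_cancel_left]
      have h := hb2
      rw [hb3, hcx.symm.mul_mul_mul_comm, ← pow_add, ← mul_two] at h
      have hin : x ^ (k' * 2) ∈ Q := by
        rw [show x ^ (k' * 2) = ((c : G) * c)⁻¹ from (inv_eq_of_mul_eq_one_right h).symm]
        exact inv_mem (mul_mem hc.1 hc.1)
      exact hQdisj hin _ rfl
    have h2 : x ^ k' = 1 := eq_one_of_pow (m := 2) (n := 3) (by rw [← pow_mul]; exact h1)
      (by rw [← pow_mul, mul_comm, pow_mul, Z.pow_three, one_pow]) (by norm_num)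
    refine hbQ ?_
    rw [show b = (c : G) by rw [← mul_inv_cancel_left (c : G) b, ← hk'', h2, mul_one]]
    exact hc.1
  -- irreducibility
  have hirr : ∀ W : Subgroup (centralizer ({zK} : Set K)), W.Normal → W ≤ QK →
      (W = QK ∨ ∀ h ∈ W, (h : K) ∈ zpowers zK) := by
    intro W hW hWQ
    rw [or_iff_not_imp_right]
    intro hno
    push Not at hno
    obtain ⟨h, hhW, hhz⟩ := hno
    let T : SuzT.V → Prop := fun u => ∃ c : Z.cen, (c : G) ∈ Q ∧ J c ∈ W ∧ π (c : G) = io u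
    obtain ⟨c, hc, rfl⟩ := hQK.1 (hWQ hhW)
    have hcP := (Z.mem_U.1 hc).2
    have hv : T (pp (π (c : G))) := ⟨c, hc.1, hhW, ((io_pp _ hcP).1).symm⟩
    have hv0 : pp (π (c : G)) ≠ 0 := fun e => hhz (by
      have e' : π (c : G) = 0 := by rw [← (io_pp _ hcP).1, e, io_zero]
      rcases (S.pi_eq _ hc.1).1 e' with e1 | e1
      · rw [show c = 1 from Subtype.ext e1, map_one]; exact one_mem _
      · rw [show c = zC from Subtype.ext e1]; exact mem_zpowers zK)
    have hall := fun u => irreducible (T := T) ⟨1, one_mem _, by rw [map_one]; exact one_mem _, by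
        rw [Subgroup.coe_one, S.pi_one, io_zero]⟩
      (by
        rintro u w ⟨a, ha, haW, ea⟩ ⟨b, hb, hbW, eb⟩
        exact ⟨a * b, mul_mem ha hb, by rw [map_mul]; exact mul_mem haW hbW,
          by rw [Subgroup.coe_mul, S.pi_mul _ ha _ hb, ea, eb, io_add]⟩)
      (by
        rintro g' hg' u ⟨a, ha, haW, ea⟩
        obtain ⟨d, hd⟩ := hψs ⟨g', hg'⟩
        refine ⟨d * a * d⁻¹, S.conj_mem (Z.cen_z d.2) ha, ?_, ?_⟩
        · rw [map_mul, map_mul, map_inv]; exact hW.conj_mem _ haW _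
        · show π ((d : G) * a * (d : G)⁻¹) = _
          rw [S.conj _ (Z.cen_z d.2) _ ha, ea, hψ, hd]) hv hv0 u
    have hzW : J zC ∈ W := by
      obtain ⟨a, ha, haW, ea⟩ := hall (pp e0)
      obtain ⟨y, hy, ey⟩ := S.pi_surj f0
      have hyU : y ∈ Q ⊓ centralizer ({x} : Set G) := Z.mem_U.2 ⟨hy, ey ▸ p2⟩
      have hye : y * (a : G) * y⁻¹ = a * z := by
        rw [S.conj_Q hy ha, ey, ea, (io_pp e0 p1).1, p3, zb_one]
      have h2 : zC = a⁻¹ * (⟨y, hUle hyU⟩ * a * (⟨y, hUle hyU⟩ : Z.cen)⁻¹) := Subtype.ext (by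
        show z = (a : G)⁻¹ * (y * a * y⁻¹)
        rw [hye, inv_mul_cancel_left])
      rw [h2, map_mul, map_inv, map_mul, map_mul, map_inv]
      exact mul_mem (inv_mem haW) (hW.conj_mem _ haW _)
    refine le_antisymm hWQ fun h' hh' => ?_
    obtain ⟨d, hd, rfl⟩ := hQK.1 hh'
    obtain ⟨a, ha, haW, ea⟩ := hall (pp (π (d : G)))
    rw [(io_pp _ (Z.mem_U.1 hd).2).1] at ea
    rcases S.eq_of_pi hd.1 ha ea.symm with e | e
    · rwa [show d = a from Subtype.ext e]
    · rw [show d = a * zC from Subtype.ext e, map_mul]; exact mul_mem haW hzW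
  have hK : IsSimpleGroup K := S5436.result zK hord QK hF hxs 3 (by norm_num) (by rw [hcard]; norm_num)
    hnwc hsimp hna hirr hwcl
  refine ⟨hK, fun h => ?_, zK, hord, QK, hQn, hF, hxs, by rw [hcard]; norm_num, ⟨eQ⟩, hnwc⟩
  exact hna ⟨⟨fun a b => by
    obtain ⟨a, rfl⟩ := QuotientGroup.mk'_surjective QK a
    obtain ⟨b, rfl⟩ := QuotientGroup.mk'_surjective QK b
    rw [← map_mul, ← map_mul, Subtype.ext (a1 := a * b) (a2 := b * a) (h.is_comm.comm (a : K) b)]⟩⟩

end Fx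

/-- Every group of Conway type has such an element. -/
theorem exists_suzLike (S : Su z Q π ρ) {s₀ g₀ : G} (X₀ : Fr z Q π ρ s₀ g₀) :
    ∃ x : G, orderOf x = 3 ∧ SuzLike (↥(centralizer ({x} : Set G)) ⧸ (zpowers x).subgroupOf (centralizer ({x} : Set G))) := by
  obtain ⟨x, Z⟩ := exists_fx S
  obtain ⟨q0, -, -, ne0, -⟩ := CoT.base_facts
  obtain ⟨s, g, X, hs⟩ := X₀.exists_vec q0 ne0
  exact ⟨x, Z.three, Z.suzLike X hs⟩

end Cfsg.Agent.CoThree
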