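import Cfsg.Agent.Lib.CoThree.Space
import Cfsg.Agent.Lib.CoFive.Meet
import Cfsg.Agent.Lib.CoT.Pairing

/-!
An element of order three of the centraliser whose fixed points on the extraspecial subgroup form an
elliptic group of order 128, and its centraliser in the centraliser of the involution.
-/

set_option autoImplicit false
set_option linter.style.haveILetI false
set_option linter.unusedSectionVars false
set_option maxRecDepth 20000
set_option synthInstance.maxSize 4000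
set_option synthInstance.maxHeartbeats 400000

open scoped Pointwise

namespace Cfsg.Agent.CoThree

open Cfsg.Agent.CoT Subgroup
open Cfsg.Agent.CoFive (rho_pow four_pow eq_one_of_pow fix_iff_comm card_lift)

local notation "F" => ZMod 2
local notation "U6" => SuzT.V

variable {G : Type*} [Group G] [Finite G]

/-- Elements of order three in one coset of a normalised subgroup of coprime order are conjugate. -/
theorem three_conj {R : Subgroup G} {b c : G} (hR : (Nat.card R).Coprime 3) (hb : orderOf b = 3)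
    (hn : ∀ r ∈ R, b * r * b⁻¹ ∈ R) (hc : c * b⁻¹ ∈ R) (hc3 : orderOf c = 3) :
    ∃ r ∈ R, r * c * r⁻¹ = b := by
  classical
  haveI : Fact (Nat.Prime 3) := ⟨by norm_num⟩
  have hdisj : ∀ x ∈ R, x ^ 3 = 1 → x = 1 := fun x hx h3' => eq_one_of_pow (m := Nat.card R) (n := 3)
    (congrArg Subtype.val (pow_card_eq_one' (x := (⟨x, hx⟩ : R)))) h3' hR
  have hzn : zpowers b ≤ normalizer (R : Set G) := by
    rw [zpowers_le]
    refine Subgroup.mem_normalizer_iff_map_conj_eq.2 (Subgroup.eq_of_le_of_card_ge ?_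
      (Nat.card_congr (R.equivMapOfInjective _ (MulAut.conj b).injective).toEquiv).le)
    rintro _ ⟨r, hr, rfl⟩
    exact hn r hr
  set H := R ⊔ zpowers b with hH
  have hHset : (H : Set G) = (R : Set G) * (zpowers b : Set G) :=
    coe_mul_of_right_le_normalizer_left R (zpowers b) hzn
  have hcardH : Nat.card H = Nat.card R * 3 := by
    let f : R × zpowers b → H := fun w => ⟨(w.1 : G) * w.2,
      mul_mem (mem_sup_left w.1.2) (mem_sup_right w.2.2)⟩
    have hf : Function.Bijective f := by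
      constructor
      · rintro ⟨⟨r, hr⟩, ⟨u, hu⟩⟩ ⟨⟨r', hr'⟩, ⟨u', hu'⟩⟩ e
        have e' : r * u = r' * u' := congrArg Subtype.val e
        have h1 : r'⁻¹ * r = u' * u⁻¹ := by
          rw [eq_mul_inv_iff_mul_eq, mul_assoc, e', inv_mul_cancel_left]
        have h2 : u' * u⁻¹ = 1 := hdisj _ (h1 ▸ mul_mem (inv_mem hr') hr) (by
          obtain ⟨i, hi⟩ := mem_zpowers_iff.1 (mul_mem hu' (inv_mem hu))
          rw [← hi, ← zpow_natCast, ← zpow_mul, mul_comm, zpow_mul, zpow_natCast, ← hb,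
            pow_orderOf_eq_one, one_zpow])
        have hu'' : u = u' := (mul_inv_eq_one.1 h2).symm
        subst hu''
        have hr'' : r = r' := mul_right_cancel e'
        subst hr''
        rfl
      · rintro ⟨x, hx⟩
        have hx' : x ∈ (H : Set G) := hx
        rw [hHset] at hx'
        obtain ⟨r, hr, u, hu, rfl⟩ := hx'
        exact ⟨(⟨r, hr⟩, ⟨u, hu⟩), rfl⟩
    rw [← Nat.card_eq_of_bijective f hf, Nat.card_prod, Nat.card_zpowers, hb]
  have hcH : c ∈ H := by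
    have := mul_mem (mem_sup_left (T := zpowers b) hc) (mem_sup_right (S := R) (mem_zpowers b))
    rwa [inv_mul_cancel_right] at this
  have hfac : 3 ^ (Nat.card H).factorization 3 = 3 := by
    rw [hcardH, Nat.factorization_mul Nat.card_pos.ne' (by norm_num), Finsupp.add_apply,
      Nat.factorization_eq_zero_of_not_dvd (fun h => by
        have := Nat.eq_one_of_dvd_coprimes hR h dvd_rfl; omega),
      Nat.Prime.factorization_self (by norm_num), zero_add, pow_one]
  have hB : b ∈ H := mem_sup_right (mem_zpowers b)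
  let Pb : Sylow 3 H := Sylow.ofCard (zpowers (⟨b, hB⟩ : H)) (by
    rw [Nat.card_zpowers, Subgroup.orderOf_mk, hb, hfac])
  let Pc : Sylow 3 H := Sylow.ofCard (zpowers (⟨c, hcH⟩ : H)) (by
    rw [Nat.card_zpowers, Subgroup.orderOf_mk, hc3, hfac])
  obtain ⟨⟨k, hk⟩, e⟩ := MulAction.exists_smul_eq H Pc Pb
  have hmem : (⟨k, hk⟩ * ⟨c, hcH⟩ * ⟨k, hk⟩⁻¹ : H) ∈ zpowers (⟨b, hB⟩ : H) := by
    show _ ∈ ((Pb : Sylow 3 H) : Subgroup H)
    rw [← e]
    exact Subgroup.smul_mem_pointwise_smul _ _ _ (mem_zpowers (⟨c, hcH⟩ : H))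
  obtain ⟨i, hi⟩ := mem_zpowers_iff.1 hmem
  have hi' : b ^ i = k * c * k⁻¹ := by simpa using congrArg Subtype.val hi
  obtain ⟨r, hr, u, hu, hru⟩ : k ∈ (R : Set G) * (zpowers b : Set G) := hHset ▸ hk
  obtain ⟨j, rfl⟩ := mem_zpowers_iff.1 hu
  have hru' : r * b ^ j = k := hru
  set r' := b ^ (-j) * r * b ^ j with hr'
  have hr'R : r' ∈ R := by
    have := (Subgroup.mem_normalizer_iff.1 (hzn (zpow_mem_zpowers b (-j))) r).1 hr
    rwa [← zpow_neg, neg_neg] at this
  have e1 : r' * c * r'⁻¹ = b ^ i := by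
    calc r' * c * r'⁻¹ = b ^ (-j) * (r * b ^ j * c * (r * b ^ j)⁻¹) * b ^ j := by rw [hr']; group
      _ = b ^ (-j) * b ^ i * b ^ j := by rw [hru', ← hi']
      _ = b ^ i := by rw [← zpow_add, ← zpow_add]; congr 1; ring
  refine ⟨r', hr'R, ?_⟩
  have h6 : b ^ i * b⁻¹ ∈ R := by
    have h4 : b * r'⁻¹ * b⁻¹ ∈ R := hn _ (inv_mem hr'R)
    have := mul_mem (mul_mem hr'R hc) h4
    rwa [← e1, show r' * c * r'⁻¹ * b⁻¹ = r' * (c * b⁻¹) * (b * r'⁻¹ * b⁻¹) by group]
  have h3' : b ^ i * b⁻¹ = 1 := hdisj _ h6 (by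
    rw [← zpow_sub_one, ← zpow_natCast, ← zpow_mul, mul_comm, zpow_mul, zpow_natCast, ← hb,
      pow_orderOf_eq_one, one_zpow])
  rw [e1]; exact mul_inv_eq_one.1 h3'

variable {z : G} {Q : Subgroup G} {π : G → V} {ρ : G → V → V}

/-- The setting with the element of order three. -/
structure Fx (z : G) (Q : Subgroup G) (π : G → V) (ρ : G → V → V) (x : G) : Prop where
  S : Su z Q π ρ
  three : orderOf x = 3
  hz : x * z = z * x
  rho : ∀ v, ρ x v = sig v

theorem coprime_three (S : Su z Q π ρ) {R : Subgroup G} (h : R ≤ Q) : (Nat.card R).Coprime 3 :=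
  Nat.Coprime.coprime_dvd_left (S.card ▸ Subgroup.card_dvd_of_le h) (by norm_num)

/-- An element of order three with the action `sig`. -/
theorem exists_fx (S : Su z Q π ρ) : ∃ x, Fx z Q π ρ x := by
  haveI : Fact (Nat.Prime 3) := ⟨Nat.prime_three⟩
  obtain ⟨h, hh, hρ⟩ := S.lift sig isOm_sig
  have h3 : h ^ 3 ∈ Q := (S.ker _ ((Commute.pow_left hh 3).eq)).1 fun v => by
    rw [rho_pow S hh, hρ]
    show sig (sig (sig v)) = v
    rw [(sig_inv v).2.2, (sig_inv v).1]
  have hx : ∀ v, ρ (h ^ 4) v = sig v := fun v => by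
    rw [rho_pow S hh, hρ]
    show sig (sig (sig (sig v))) = sig v
    rw [(sig_inv v).2.2, (sig_inv v).1]
  refine ⟨h ^ 4, S, orderOf_eq_prime ?_ fun e => ?_, (Commute.pow_left hh 4).eq, hx⟩
  · rw [← pow_mul, mul_comm, pow_mul, four_pow S h3]
  · have h1 := hx a0
    rw [e, S.rho_one, sig_facts.1] at h1
    exact absurd h1 (by decide +kernel)

namespace Fx

variable {x : G} (Z : Fx z Q π ρ x)
include Z

theorem odd : Odd (orderOf x) := by rw [Z.three]; decide

theorem pow_three : x ^ 3 = 1 := by rw [← Z.three, pow_orderOf_eq_one]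

theorem x_z (n : ℕ) : x ^ n * z = z * x ^ n := (Commute.pow_left Z.hz n).eq

theorem mem_fix {u : G} (hu : u ∈ Q) : x * u = u * x ↔ Perp (π u) := by
  rw [fix_iff_comm Z.S Z.hz Z.odd hu, Z.rho, fix_iff]

theorem mem_U {u : G} : u ∈ Q ⊓ centralizer ({x} : Set G) ↔ u ∈ Q ∧ Perp (π u) := by
  rw [mem_inf, mem_centralizer_singleton_iff]
  exact and_congr_right fun hu => by rw [← Z.mem_fix hu, eq_comm]

theorem card_U : Nat.card ↥(Q ⊓ centralizer ({x} : Set G)) = 128 := by
  have h := card_lift Z.S Perp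
  rw [show Nat.card {v : V // Perp v} = 64 by rw [Nat.card_eq_fintype_card]; decide +kernel] at h
  rw [← show Nat.card {u : G // u ∈ Q ∧ Perp (π u)} = Nat.card ↥(Q ⊓ centralizer ({x} : Set G)) from
    Nat.card_congr (Equiv.subtypeEquivRight fun u => Z.mem_U.symm), h]

/-- The centraliser of `x` in the centraliser of `z`. -/
abbrev cen (_Z : Fx z Q π ρ x) : Subgroup G := centralizer ({z} : Set G) ⊓ centralizer ({x} : Set G)

theorem cen_z {c : G} (hc : c ∈ Z.cen) : c * z = z * c := mem_centralizer_singleton_iff.1 hc.1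

theorem cen_x {c : G} (hc : c ∈ Z.cen) : c * x = x * c := mem_centralizer_singleton_iff.1 hc.2

theorem mem_cen {c : G} (h1 : c * z = z * c) (h2 : c * x = x * c) : c ∈ Z.cen :=
  ⟨mem_centralizer_singleton_iff.2 h1, mem_centralizer_singleton_iff.2 h2⟩

theorem rho_sig {c : G} (hc : c ∈ Z.cen) (v : V) : ρ c (sig v) = sig (ρ c v) := by
  rw [← Z.rho, ← Z.rho, ← Z.S.rho_mul (Z.cen_z hc) Z.hz, Z.cen_x hc, Z.S.rho_mul Z.hz (Z.cen_z hc)]

theorem perp_rho {c : G} (hc : c ∈ Z.cen) {v : V} (hv : Perp v) : Perp (ρ c v) := by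
  rw [← fix_iff, ← Z.rho_sig hc, (fix_iff v).2 hv]

theorem plane_cases {c : G} (hc : c ∈ Z.cen) :
    ∃ k : V → V, (k = (fun v => v) ∨ k = sig ∨ k = sig') ∧ k (ρ c a0) = a0 ∧ k (ρ c v0) = v0 := by
  obtain ⟨h1, h2, h3, h4⟩ := sig_facts
  have hv : ρ c v0 = sig (ρ c a0) := by rw [← Z.rho_sig hc, h1]
  have hci : c⁻¹ ∈ Z.cen := inv_mem hc
  rcases span_cases (ρ c a0) (fun w hw => by
      rw [← Z.S.rho_one w, ← mul_inv_cancel c, Z.S.rho_mul (Z.cen_z hc) (Z.cen_z hci),
        Z.S.rho_bil (Z.cen_z hc), bil_comm]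
      exact (Z.perp_rho hci hw).1) with e | e | e | e
  · exact absurd (Z.S.rho_inj (Z.cen_z hc) (e.trans (Z.S.rho_zero (Z.cen_z hc)).symm)) (by decide +kernel)
  · exact ⟨_, Or.inl rfl, e, by rw [hv, e, h1]⟩
  · exact ⟨sig', Or.inr (Or.inr rfl), by rw [e, h4], by rw [hv, e, (sig_inv v0).2.1]⟩
  · refine ⟨sig, Or.inr (Or.inl rfl), ?_, ?_⟩
    · rw [e, sig_add, h1, h2, add_left_comm, CoT.add_self, add_zero]
    · rw [hv, e, sig_add, h1, h2, add_left_comm, CoT.add_self, add_zero, h1]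

/-- The action on the orthogonal space. -/
theorem exists_psi : ∃ ψ : ↥Z.cen →* ↥SuzT.Om,
    (∀ (c : Z.cen) (u : U6), ρ (c : G) (io u) = io (SuzT.app ((ψ c : SuzT.O6)) u)) ∧
    Function.Surjective ψ ∧
    ∀ c : Z.cen, ψ c = 1 ↔ ∃ u ∈ Q ⊓ centralizer ({x} : Set G), ∃ n : ℕ, (c : G) = u * x ^ n := by
  classical
  have S := Z.S
  have key : ∀ c : Z.cen, ∃ g : SuzT.Om, ∀ u, ρ (c : G) (io u) = io (SuzT.app (g : SuzT.O6) u) := by
    intro c
    let f : U6 → U6 := fun u => pp (ρ (c : G) (io u))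
    let f' : U6 → U6 := fun u => pp (ρ (c : G)⁻¹ (io u))
    have hf : ∀ {d : G}, d ∈ Z.cen → ∀ u, io (pp (ρ d (io u))) = ρ d (io u) := fun hd u =>
      (io_pp _ (Z.perp_rho hd (io_perp u))).1
    have hc := Z.cen_z c.2
    have hci := Z.cen_z (inv_mem c.2)
    have hadd : ∀ {d : G}, d * z = z * d → ∀ u w, pp (ρ d (io (u + w))) = pp (ρ d (io u)) + pp (ρ d (io w)) :=
      fun hd u w => by rw [io_add, S.rho_add hd, pp_add]
    obtain ⟨g, hg⟩ := exists_app6 f f' (hadd hc)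
      (fun u => by rw [← io_q, hf c.2, S.rho_q hc, io_q]) (hadd hci)
      (fun u => by
        show pp (ρ (c : G)⁻¹ (io (pp (ρ (c : G) (io u))))) = u
        rw [hf c.2, ← S.rho_mul hci hc, inv_mul_cancel, S.rho_one, (pp_io u).1])
      (fun u => by
        show pp (ρ (c : G) (io (pp (ρ (c : G)⁻¹ (io u))))) = u
        rw [hf (inv_mem c.2), ← S.rho_mul hc hci, mul_inv_cancel, S.rho_one, (pp_io u).1])
    obtain ⟨k, hk, ka, kv⟩ := Z.plane_cases c.2
    have hkI : CoT.IsOm k ∧ ∀ u, Perp u → k u = u := by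
      rcases hk with rfl | rfl | rfl
      exacts [⟨CoT.isOm_id, fun _ _ => rfl⟩, ⟨isOm_sig, fun u => (fix_iff u).2⟩,
        ⟨isOm_sig', fun u => (fix'_iff u).2⟩]
    have hkc : ∀ u, k (ρ (c : G) (io u)) = ρ (c : G) (io u) := fun u =>
      hkI.2 _ (Z.perp_rho c.2 (io_perp u))
    refine ⟨⟨g, mem_Om_of_ext ((hkI.1.comp (S.om _ hc)).congr fun v => ?_)⟩, fun u => ?_⟩
    · rw [eq_ext (g := fun v => k (ρ (c : G) v)) (fun a b => by simp only [S.rho_add hc, hkI.1.add]) ka kv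
        (fun u => by simp only [hkc]; exact Z.perp_rho c.2 (io_perp u)), hg]
      exact congrArg (fun f => ext f v) (funext fun u => by simp only [hkc]; rfl)
    · show _ = io (SuzT.app g u)
      rw [hg]
      exact (hf c.2 u).symm
  choose ψ hψ using key
  refine ⟨MonoidHom.mk' ψ fun a b => Subtype.ext (SuzT.app_inj (funext fun u => io_inj ?_)), hψ, ?_, fun c => ?_⟩
  · rw [← hψ, Subgroup.coe_mul, S.rho_mul (Z.cen_z a.2) (Z.cen_z b.2), hψ b, hψ a, Subgroup.coe_mul,
      SuzT.app_mul]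
  · rintro ⟨g, hg⟩
    obtain ⟨h, hh, hρ⟩ := S.lift _ (isOm_ext hg)
    have hext : ∀ v, ext (SuzT.app g) (sig v) = sig (ext (SuzT.app g) v) := by
      intro v
      have e0' : SuzT.app g 0 = 0 := left_eq_add.1
        (show SuzT.app g 0 = SuzT.app g 0 + SuzT.app g 0 by rw [← SuzT.app_add, add_zero])
      obtain ⟨ha, hv⟩ := ext_plane e0'
      have hadd := ext_add (SuzT.app_add g)
      obtain ⟨h1, h2, -, -⟩ := sig_facts
      have hs : ∀ (c : F) (u : V), ext (SuzT.app g) (sm c u) = sm c (ext (SuzT.app g) u) := fun c u =>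
        (isOm_ext hg).sm c u
      conv_lhs => rw [← decomp v, sig_add, (fix_iff _).2 (io_perp _)]
      conv_rhs => rw [← decomp v, hadd, sig_add, ext_io, (fix_iff _).2 (io_perp _)]
      rw [hadd, ext_io, pl, sig_add, isOm_sig.sm, isOm_sig.sm, h1, h2, hadd, hadd, hs, hs, hs, hs,
        hadd, ha, hv, sig_add, isOm_sig.sm, isOm_sig.sm, h1, h2]
    have hxh : h * x * z = z * (h * x) := S.comm_mul hh Z.hz
    have hyz : h * x * h⁻¹ * z = z * (h * x * h⁻¹) := S.comm_mul hxh (S.comm_inv hh)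
    have hdz : h * x * h⁻¹ * x⁻¹ * z = z * (h * x * h⁻¹ * x⁻¹) := S.comm_mul hyz (S.comm_inv Z.hz)
    have hd : h * x * h⁻¹ * x⁻¹ ∈ Q := (S.ker _ hdz).1 fun v => by
      rw [S.rho_mul hyz (S.comm_inv Z.hz), S.rho_mul hxh (S.comm_inv hh), S.rho_mul hh Z.hz, Z.rho, hρ,
        hext, ← hρ, ← S.rho_mul hh (S.comm_inv hh), mul_inv_cancel, S.rho_one, ← Z.rho,
        ← S.rho_mul Z.hz (S.comm_inv Z.hz), mul_inv_cancel, S.rho_one]
    obtain ⟨r, hr, e⟩ := three_conj (R := Q) (b := x) (coprime_three S le_rfl) Z.three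
      (fun r hr => S.conj_mem Z.hz hr) hd (by rw [show h * x * h⁻¹ = MulAut.conj h x by rfl,
        MulEquiv.orderOf_eq, Z.three])
    have hrz : r * h * z = z * (r * h) := S.comm_mul (S.Qz hr) hh
    have hrx : r * h * x = x * (r * h) := mul_inv_eq_iff_eq_mul.1 (by
      calc r * h * x * (r * h)⁻¹ = r * (h * x * h⁻¹) * r⁻¹ := by group
        _ = x := e)
    refine ⟨⟨r * h, Z.mem_cen hrz hrx⟩, Subtype.ext (SuzT.app_inj (funext fun u => io_inj ?_))⟩
    show io (SuzT.app (ψ ⟨r * h, _⟩ : SuzT.O6) u) = io (SuzT.app g u)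
    rw [← hψ, S.rho_mul (S.Qz hr) hh, S.rho_Q hr, hρ, ext_io]
  · show ψ c = 1 ↔ _
    constructor
    · intro e
      have hio : ∀ u, ρ (c : G) (io u) = io u := fun u => by
        rw [hψ, e]; simp [SuzT.app_one]
      obtain ⟨k, hk, ka, kv⟩ := Z.plane_cases c.2
      have hc := Z.cen_z c.2
      obtain ⟨n, hn⟩ : ∃ n : ℕ, ∀ v, k (ρ (x ^ n) v) = v := by
        rcases hk with rfl | rfl | rfl
        · exact ⟨0, fun v => by rw [pow_zero, S.rho_one]⟩
        · refine ⟨2, fun v => ?_⟩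
          rw [rho_pow S Z.hz]
          show sig (ρ x (ρ x v)) = v
          rw [Z.rho, Z.rho, (sig_inv v).2.2, (sig_inv v).1]
        · exact ⟨1, fun v => by rw [pow_one, Z.rho, (sig_inv v).2.1]⟩
      have hkI : CoT.IsOm k ∧ ∀ u, Perp u → k u = u := by
        rcases hk with rfl | rfl | rfl
        exacts [⟨CoT.isOm_id, fun _ _ => rfl⟩, ⟨isOm_sig, fun u => (fix_iff u).2⟩,
          ⟨isOm_sig', fun u => (fix'_iff u).2⟩]
      have hid : ∀ v, k (ρ (c : G) v) = v := fun v => by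
        have hk' : ∀ u, k (ρ (c : G) (io u)) = io u := fun u => by rw [hio, hkI.2 _ (io_perp u)]
        rw [eq_ext (g := fun v => k (ρ (c : G) v)) (fun a b => by simp only [S.rho_add hc, hkI.1.add]) ka kv
          (fun u => by simp only [hk']; exact io_perp u),
          show (fun u => pp ((fun v => k (ρ (c : G) v)) (io u))) = fun u => u from
            funext fun u => by simp only [hk', (pp_io u).1], ext_id]
      have hni := S.comm_inv (Z.x_z n)
      have hcz : (c : G) * (x ^ n)⁻¹ * z = z * ((c : G) * (x ^ n)⁻¹) := S.comm_mul hc hni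
      refine ⟨c * (x ^ n)⁻¹, Z.mem_U.2 ?_, n, (inv_mul_cancel_right _ _).symm⟩
      have hQ : (c : G) * (x ^ n)⁻¹ ∈ Q := (S.ker _ hcz).1 fun v => by
        obtain ⟨w, rfl⟩ : ∃ w, ρ (x ^ n) w = v := ⟨ρ (x ^ n)⁻¹ v, by
          rw [← S.rho_mul (Z.x_z n) hni, mul_inv_cancel, S.rho_one]⟩
        rw [← S.rho_mul hcz (Z.x_z n), inv_mul_cancel_right]
        exact hkI.1.inj ((hid w).trans (hn w).symm)
      refine ⟨hQ, (Z.mem_fix hQ).1 ?_⟩
      exact ((Commute.mul_left (Z.cen_x c.2) ((Commute.refl x).pow_left n).inv_left).eq).symm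
    · rintro ⟨u, hu, n, e⟩
      refine Subtype.ext (SuzT.app_inj (funext fun w => io_inj ?_))
      rw [← hψ, Subgroup.coe_one, SuzT.app_one, e, S.rho_mul (S.Qz hu.1) (Z.x_z n), S.rho_Q hu.1,
        rho_pow S Z.hz, Function.iterate_fixed (by rw [Z.rho, (fix_iff _).2 (io_perp w)])]

end Fx

end Cfsg.Agent.CoThree
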