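import Cfsg.Agent.Lib.CoT.Moves
import Cfsg.Agent.Lib.SuzT.Image

/-!
An isometry of order three of the eight-dimensional hyperbolic space with a six-dimensional elliptic
space of fixed vectors.
-/

set_option autoImplicit false
set_option linter.style.haveILetI false
set_option maxRecDepth 20000
set_option synthInstance.maxSize 4000
set_option synthInstance.maxHeartbeats 400000

open scoped Matrix

namespace Cfsg.Agent.CoThree

open Cfsg.Agent.CoT

local notation "F" => ZMod 2
local notation "U6" => SuzT.V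

/-- The isometry of order three on the plane of `a₀` and `v₀`. -/
def sig (x : V) : V := tr a0 (tr v0 x)

/-- Its inverse. -/
def sig' (x : V) : V := tr v0 (tr a0 x)

/-- Orthogonal to the plane. -/
def Perp (v : V) : Prop := bil v a0 = 0 ∧ bil v v0 = 0

instance (v : V) : Decidable (Perp v) := by unfold Perp; infer_instance

/-- Coordinates of the orthogonal space. -/
def io (u : U6) : V :=
  (u.1, ((u.2.2.1, u.2.2.1), ((u.2.2.2, u.2.2.2 + u.2.2.1), u.2.1)))

/-- A left inverse. -/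
def pr (v : V) : U6 := (v.1, (v.2.2.2, (v.2.1.1, v.2.2.1.1)))

/-- The component in the plane. -/
def pl (v : V) : V := sm (bil v v0) a0 + sm (bil v a0) v0

/-- The component in the orthogonal space. -/
def pp (v : V) : U6 := pr (v + pl v)

/-- Extension by the identity on the plane. -/
def ext (f : U6 → U6) (v : V) : V := io (f (pp v)) + pl v

theorem io_add (u w : U6) : io (u + w) = io u + io w := by
  simp [io, Prod.ext_iff]; ring

theorem pr_add (u w : V) : pr (u + w) = pr u + pr w := by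
  simp [pr, Prod.ext_iff]

theorem pl_add (u w : V) : pl (u + w) = pl u + pl w := by
  simp only [pl, bil_add_left, sm_add]; abel

theorem pp_add (u w : V) : pp (u + w) = pp u + pp w := by
  rw [pp, pp, pp, ← pr_add, pl_add]; congr 1; abel

theorem io_zero : io 0 = 0 := by decide +kernel

theorem io_perp : ∀ u : U6, Perp (io u) := by decide +kernel

theorem io_q : ∀ u : U6, q (io u) = SuzT.q u := by decide +kernel

theorem io_bil (u w : U6) : bil (io u) (io w) = SuzT.bil u w := by
  have h := q_add (io u) (io w)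
  rw [← io_add, io_q, io_q, io_q, SuzT.q_add] at h
  exact (add_left_cancel h).symm

theorem pr_io : ∀ u : U6, pr (io u) = u := by decide +kernel

theorem io_inj : Function.Injective io := fun u w h => by rw [← pr_io u, h, pr_io]

theorem pp_io : ∀ u : U6, pp (io u) = u ∧ pl (io u) = 0 := by decide +kernel

theorem io_pp : ∀ v : V, Perp v → io (pp v) = v ∧ pl v = 0 := by decide +kernel

theorem decomp : ∀ v : V, io (pp v) + pl v = v := by decide +kernel

theorem pp_pl : ∀ v : V, pp (pl v) = 0 ∧ pl (pl v) = pl v := by decide +kernel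

theorem q_decomp : ∀ v : V, q v = SuzT.q (pp v) + q (pl v) := by decide +kernel

theorem plane_facts : pp a0 = 0 ∧ pp v0 = 0 ∧ pl a0 = a0 ∧ pl v0 = v0 ∧ q a0 = 1 ∧ q v0 = 1 ∧
    bil a0 v0 = 1 ∧ bil a0 e0 = 0 ∧ bil v0 e0 = 0 ∧ Perp e0 ∧ io SuzT.e0 = e0 := by decide +kernel

theorem sig_facts : sig a0 = v0 ∧ sig v0 = a0 + v0 ∧ sig' a0 = a0 + v0 ∧ sig' v0 = a0 := by
  decide +kernel

theorem fix_iff : ∀ v : V, sig v = v ↔ Perp v := by decide +kernel

theorem fix'_iff : ∀ v : V, sig' v = v ↔ Perp v := by decide +kernel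

theorem sig_inv : ∀ v : V, sig (sig' v) = v ∧ sig' (sig v) = v ∧ sig (sig v) = sig' v := by
  decide +kernel

theorem span_cases : ∀ v : V, (∀ w, Perp w → bil v w = 0) → v = 0 ∨ v = a0 ∨ v = v0 ∨ v = a0 + v0 := by
  decide +kernel

theorem isOm_sig : IsOm sig := isOm_tr_tr plane_facts.2.2.2.2.1 plane_facts.2.2.2.2.2.1

theorem isOm_sig' : IsOm sig' := isOm_tr_tr plane_facts.2.2.2.2.2.1 plane_facts.2.2.2.2.1

theorem sig_add (u w : V) : sig (u + w) = sig u + sig w := isOm_sig.add u w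

theorem sig'_add (u w : V) : sig' (u + w) = sig' u + sig' w := isOm_sig'.add u w

/-- The elementary extension. -/
theorem ext_add {f : U6 → U6} (h : ∀ u w, f (u + w) = f u + f w) (u w : V) :
    ext f (u + w) = ext f u + ext f w := by
  simp only [ext, pp_add, h, io_add, pl_add]; abel

theorem pp_ext {f : U6 → U6} (v : V) : pp (ext f v) = f (pp v) ∧ pl (ext f v) = pl v := by
  rw [ext, pp_add, pl_add, (pp_io _).1, (pp_io _).2, (pp_pl v).1, (pp_pl v).2]
  simp

theorem ext_q {f : U6 → U6} (h : ∀ u, SuzT.q (f u) = SuzT.q u) (v : V) : q (ext f v) = q v := by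
  rw [q_decomp (ext f v), (pp_ext v).1, (pp_ext v).2, h, ← q_decomp]

theorem ext_comp (f f' : U6 → U6) (v : V) : ext f (ext f' v) = ext (fun u => f (f' u)) v := by
  rw [ext, (pp_ext v).1, (pp_ext v).2]; rfl

theorem ext_id (v : V) : ext (fun u => u) v = v := decomp v

theorem ext_io {f : U6 → U6} (u : U6) : ext f (io u) = io (f u) := by
  rw [ext, (pp_io u).1, (pp_io u).2, add_zero]

theorem ext_plane {f : U6 → U6} (h0 : f 0 = 0) : ext f a0 = a0 ∧ ext f v0 = v0 := by
  obtain ⟨h1, h2, h3, h4, -⟩ := plane_facts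
  rw [ext, ext, h1, h2, h3, h4, h0, io_zero, zero_add, zero_add]
  exact ⟨rfl, rfl⟩

/-- An additive map fixing the plane and preserving its orthogonal space is an extension. -/
theorem eq_ext {g : V → V} (hadd : ∀ u w, g (u + w) = g u + g w) (ha : g a0 = a0) (hv : g v0 = v0)
    (hp : ∀ u, Perp (g (io u))) (v : V) : g v = ext (fun u => pp (g (io u))) v := by
  have g0 : g 0 = 0 := left_eq_add.1 (show g 0 = g 0 + g 0 by rw [← hadd, add_zero])
  have hs : ∀ (c : F) (u : V), g (sm c u) = sm c (g u) := fun c u => by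
    rcases F_cases c with rfl | rfl
    · rw [sm_zero, sm_zero, g0]
    · rw [sm_one, sm_one]
  conv_lhs => rw [← decomp v]
  rw [ext, hadd, (io_pp _ (hp _)).1]
  congr 1
  rw [pl, hadd, hs, hs, ha, hv]

/-- An isometry with given inverse as a group element. -/
theorem exists_app8 (f f' : V → V) (hadd : ∀ u v, f (u + v) = f u + f v) (hq : ∀ v, q (f v) = q v)
    (hadd' : ∀ u v, f' (u + v) = f' u + f' v) (hl : ∀ v, f' (f v) = v) (hr : ∀ v, f (f' v) = v) :
    ∃ g : O8, CoT.app g = f := by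
  let lin : (V → V) → Matrix I8 I8 F := fun f =>
    if h : ∀ u v, f (u + v) = f u + f v then
      LinearMap.toMatrix' (AddMonoidHom.toZModLinearMap 2
        (AddMonoidHom.mk' (fun w => CoT.σ (f (CoT.σ.symm w))) fun u v => by rw [map_add, h, map_add]))
    else 0
  have hlin : ∀ f : V → V, (∀ u v, f (u + v) = f u + f v) → ∀ w,
      lin f *ᵥ w = CoT.σ (f (CoT.σ.symm w)) := fun f h w => by
    simp only [lin, dif_pos h]
    rw [LinearMap.toMatrix'_mulVec]; rfl
  have hMM : ∀ f f' : V → V, (∀ u v, f (u + v) = f u + f v) → (∀ u v, f' (u + v) = f' u + f' v) →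
      (∀ v, f (f' v) = v) → lin f * lin f' = 1 := fun f f' h h' e =>
    Matrix.ext_of_mulVec_single fun i => by
      rw [← Matrix.mulVec_mulVec, hlin f' h', hlin f h, AddEquiv.symm_apply_apply, e,
        AddEquiv.apply_symm_apply, Matrix.one_mulVec]
  refine ⟨⟨⟨lin f, lin f', hMM f f' hadd hadd' hr, hMM f' f hadd' hadd hl⟩, fun u _ => ?_⟩,
    funext fun v => ?_⟩
  · show q8 (lin f *ᵥ u) = q8 u
    rw [hlin f hadd, CoT.q_σ, hq, ← CoT.q_σ, AddEquiv.apply_symm_apply]
  · show CoT.σ.symm (lin f *ᵥ CoT.σ v) = f v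
    rw [hlin f hadd, AddEquiv.symm_apply_apply, AddEquiv.symm_apply_apply]

/-- An isometry of the six-dimensional space with given inverse as a group element. -/
theorem exists_app6 (f f' : U6 → U6) (hadd : ∀ u v, f (u + v) = f u + f v)
    (hq : ∀ v, SuzT.q (f v) = SuzT.q v)
    (hadd' : ∀ u v, f' (u + v) = f' u + f' v) (hl : ∀ v, f' (f v) = v) (hr : ∀ v, f (f' v) = v) :
    ∃ g : SuzT.O6, SuzT.app g = f := by
  let lin : (U6 → U6) → Matrix SuzT.I6 SuzT.I6 F := fun f =>
    if h : ∀ u v, f (u + v) = f u + f v then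
      LinearMap.toMatrix' (AddMonoidHom.toZModLinearMap 2
        (AddMonoidHom.mk' (fun w => SuzT.σ (f (SuzT.σ.symm w))) fun u v => by rw [map_add, h, map_add]))
    else 0
  have hlin : ∀ f : U6 → U6, (∀ u v, f (u + v) = f u + f v) → ∀ w,
      lin f *ᵥ w = SuzT.σ (f (SuzT.σ.symm w)) := fun f h w => by
    simp only [lin, dif_pos h]
    rw [LinearMap.toMatrix'_mulVec]; rfl
  have hMM : ∀ f f' : U6 → U6, (∀ u v, f (u + v) = f u + f v) → (∀ u v, f' (u + v) = f' u + f' v) →
      (∀ v, f (f' v) = v) → lin f * lin f' = 1 := fun f f' h h' e =>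
    Matrix.ext_of_mulVec_single fun i => by
      rw [← Matrix.mulVec_mulVec, hlin f' h', hlin f h, AddEquiv.symm_apply_apply, e,
        AddEquiv.apply_symm_apply, Matrix.one_mulVec]
  refine ⟨⟨⟨lin f, lin f', hMM f f' hadd hadd' hr, hMM f' f hadd' hadd hl⟩, fun u _ => ?_⟩,
    funext fun v => ?_⟩
  · show SuzT.q6 (lin f *ᵥ u) = SuzT.q6 u
    rw [hlin f hadd, SuzT.q_σ, hq, ← SuzT.q_σ, AddEquiv.apply_symm_apply]
  · show SuzT.σ.symm (lin f *ᵥ SuzT.σ v) = f v
    rw [hlin f hadd, AddEquiv.symm_apply_apply, AddEquiv.symm_apply_apply]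

/-- Extension as a homomorphism of isometry groups. -/
theorem exists_extHom : ∃ e : SuzT.O6 →* O8, ∀ g, CoT.app (e g) = ext (SuzT.app g) := by
  have h : ∀ g : SuzT.O6, ∃ g' : O8, CoT.app g' = ext (SuzT.app g) := fun g =>
    exists_app8 _ (ext (SuzT.app g⁻¹)) (ext_add (SuzT.app_add g)) (ext_q (SuzT.app_q g))
      (ext_add (SuzT.app_add g⁻¹))
      (fun v => by
        rw [ext_comp, show (fun u => SuzT.app g⁻¹ (SuzT.app g u)) = fun u => u from funext fun u => by
          rw [← SuzT.app_mul, inv_mul_cancel, SuzT.app_one], ext_id])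
      (fun v => by
        rw [ext_comp, show (fun u => SuzT.app g (SuzT.app g⁻¹ u)) = fun u => u from funext fun u => by
          rw [← SuzT.app_mul, mul_inv_cancel, SuzT.app_one], ext_id])
  choose e he using h
  refine ⟨MonoidHom.mk' e fun a b => CoT.app_inj (funext fun v => ?_), he⟩
  rw [CoT.app_mul, he, he, he, ext_comp]
  exact congrArg (fun f => ext f v) (funext fun u => SuzT.app_mul a b u)

/-- The extension of an element of the commutator subgroup is in the commutator subgroup. -/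
theorem isOm_ext {g : SuzT.O6} (hg : g ∈ SuzT.Om) : CoT.IsOm (ext (SuzT.app g)) := by
  obtain ⟨e, he⟩ := exists_extHom
  refine ⟨e g, ?_, he g⟩
  have hle : (commutator SuzT.O6).map e ≤ commutator O8 := by
    rw [commutator, commutator, Subgroup.map_commutator]
    exact Subgroup.commutator_mono le_top le_top
  exact hle ⟨g, hg, rfl⟩

theorem suz_e1 : SuzT.q (SuzT.a0) = 1 := by decide +kernel

theorem ext_tr : ∀ v : V, ext (SuzT.tr SuzT.a0) v = tr (io SuzT.a0) v := by decide +kernel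

/-- An isometry of the orthogonal space whose extension is in the commutator subgroup is in it. -/
theorem mem_Om_of_ext {g : SuzT.O6} (h : CoT.IsOm (ext (SuzT.app g))) : g ∈ SuzT.Om := by
  by_contra hg
  obtain ⟨t, ht⟩ := SuzT.exists_tr suz_e1
  have htn : t ∉ SuzT.Om := fun hm => SuzT.not_isOm_tr ⟨t, hm, ht⟩
  have hgt : g * t ∈ SuzT.Om :=
    (Subgroup.mul_mem_iff_of_index_two SuzT.index_Om).2 (iff_of_false hg htn)
  obtain ⟨k, hk, hl, -⟩ := h.inv
  refine CoT.not_isOm_tr (a := io SuzT.a0) (by rw [io_q]; exact suz_e1) ((hk.comp (isOm_ext hgt)).congr fun v => ?_)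
  show k (ext (SuzT.app (g * t)) v) = _
  rw [show SuzT.app (g * t) = fun u => SuzT.app g (SuzT.tr SuzT.a0 u) from funext fun u => by
    rw [SuzT.app_mul, ht], ← ext_comp, hl, ext_tr]

theorem exists_perp_sing : ∀ a : V, q a = 1 → ∃ e, q e = 0 ∧ e ≠ 0 ∧ bil a e = 0 := by decide +kernel

theorem exists_partner : ∀ a : V, q a = 1 → bil a e0 = 0 → ∃ v, q v = 1 ∧ bil v e0 = 0 ∧ bil a v = 1 := by
  decide +kernel

theorem exists_common : ∀ v : V, q v = 1 → bil a0 v = 1 → ∃ e, q e = 0 ∧ e ≠ 0 ∧ bil a0 e = 0 ∧ bil v e = 0 := by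
  decide +kernel

/-- Every anisotropic pair moves to the standard one. -/
theorem pair_move {a v : V} (ha : q a = 1) (hv : q v = 1) (hav : bil a v = 1) :
    ∃ f, CoT.IsOm f ∧ f a = a0 ∧ f v = v0 := by
  obtain ⟨e, he, he0, hae⟩ := exists_perp_sing a ha
  obtain ⟨k1, hk1, k1e⟩ := move_e0 he he0
  have ha1 : bil (k1 a) e0 = 0 := by rw [← k1e, hk1.bil_eq, hae]
  obtain ⟨w, hw, hw0, haw⟩ := exists_partner (k1 a) (by rw [hk1.q_eq, ha]) ha1
  obtain ⟨k2, hk2, -, k2a, -⟩ := move_apair (a := k1 a) (v := w) (by rw [hk1.q_eq, ha]) ha1 hw hw0 haw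
  have hb : bil a0 (k2 (k1 v)) = 1 := by rw [← k2a, hk2.bil_eq, hk1.bil_eq, hav]
  have hq' : q (k2 (k1 v)) = 1 := by rw [hk2.q_eq, hk1.q_eq, hv]
  obtain ⟨e', he', he'0, hae', hve'⟩ := exists_common _ hq' hb
  obtain ⟨k3, hk3, k3e⟩ := move_e0 he' he'0
  obtain ⟨k4, hk4, -, k4a, k4v⟩ := move_apair (a := k3 a0) (v := k3 (k2 (k1 v)))
    (by rw [hk3.q_eq, plane_facts.2.2.2.2.1]) (by rw [← k3e, hk3.bil_eq, hae']) (by rw [hk3.q_eq, hq'])
    (by rw [← k3e, hk3.bil_eq, hve']) (by rw [hk3.bil_eq, hb])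
  refine ⟨fun x => k4 (k3 (k2 (k1 x))), hk4.comp (hk3.comp (hk2.comp hk1)), ?_, k4v⟩
  show k4 (k3 (k2 (k1 a))) = a0
  rw [k2a, k4a]

end Cfsg.Agent.CoThree
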