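import Cfsg.Agent.Lib.CoThree.Setting

/-!
An element centralising `x` and carrying the central involution to a conjugate in the extraspecial
subgroup, and a conjugate outside it.
-/

set_option autoImplicit false
set_option linter.style.haveILetI false
set_option linter.unusedSectionVars false
set_option maxRecDepth 20000
set_option synthInstance.maxSize 4000
set_option synthInstance.maxHeartbeats 400000

namespace Cfsg.Agent.CoThree

open Cfsg.Agent.CoT Subgroup
open Cfsg.Agent.LargeExtra (mem_conjMap)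
open Cfsg.Agent.CoFive (rho_pow eq_one_of_pow fix_iff_comm card_lift)

local notation "F" => ZMod 2

theorem fix_counts : Nat.card {v : V // bil v e0 = 0 ∧ Perp v ∧ v.1.1 = 0} = 16 := by
  rw [Nat.card_eq_fintype_card]; decide +kernel

/-- A fixed-point-small map of order three with at least 64 fixed vectors is conjugate to `sig`. -/
theorem conj_sig {f : V → V} (hf : CoT.IsOm f) (h3 : ∀ v, f (f (f v)) = v) (hne : ∃ v, f v ≠ v)
    (hfix : 64 ≤ Nat.card {v : V // f v = v}) :
    ∃ k, CoT.IsOm k ∧ ∀ v, k (f v) = sig (k v) := by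
  classical
  have hadd := hf.add
  have f0' := hf.zero
  have hfd : ∀ v, f (f v + v) = f (f v) + f v := fun v => by rw [hadd]
  -- the image is orthogonal to the fixed vectors
  let φ : V →+ V := AddMonoidHom.mk' (fun v => f v + v) fun u w => by rw [hadd]; abel
  let D : Finset V := Finset.univ.image fun v => f v + v
  have hmemD : ∀ {d}, d ∈ D ↔ ∃ v, f v + v = d := fun {d} => by simp [D]
  have hD4 : D.card ≤ 4 := by
    have h := φ.ker.card_mul_index
    rw [AddSubgroup.index_ker, show Nat.card V = 256 by rw [Nat.card_eq_fintype_card]; decide +kernel,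
      show Nat.card φ.ker = Nat.card {v : V // f v = v} from Nat.card_congr (Equiv.subtypeEquivRight fun v =>
        ⟨fun e => CoT.eq_of_add e, fun e => by show f v + v = 0; rw [e, CoT.add_self]⟩),
      show Nat.card φ.range = D.card by
        rw [Nat.card_eq_fintype_card]
        exact Fintype.card_of_subtype D fun d => by rw [AddMonoidHom.mem_range]; exact hmemD] at h
    by_contra hlt
    have := Nat.mul_le_mul hfix (show 5 ≤ D.card by omega)
    omega
  obtain ⟨v, hv⟩ := hne
  set d := f v + v with hd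
  have hd0 : d ≠ 0 := fun e => hv (CoT.eq_of_add e)
  have hsum : ∀ u, f (f (f u + u)) + f (f u + u) + (f u + u) = 0 := fun u => by
    rw [hadd, hadd, h3]
    rw [show u + f (f u) + (f (f u) + f u) + (f u + u) = (u + u) + (f (f u) + f (f u)) + (f u + f u) by abel,
      CoT.add_self, CoT.add_self, CoT.add_self]
    simp [CoT.add_self]
  have hnf : f d ≠ d := fun e => hd0 (by
    have := hsum v
    rwa [← hd, e, e, CoT.add_self, zero_add] at this)
  have hff : f (f d) = f d + d := by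
    have := hsum v
    rw [← hd, add_assoc] at this
    exact CoT.eq_of_add this
  have hne2 : f d ≠ 0 := fun e => hd0 (hf.inj (e.trans f0'.symm))
  have hne3 : f d + d ≠ 0 := fun e => hnf (CoT.eq_of_add e)
  have hDsub : ({0, d, f d, f d + d} : Finset V) ⊆ D := by
    intro u hu
    simp only [Finset.mem_insert, Finset.mem_singleton] at hu
    refine hmemD.2 ?_
    rcases hu with rfl | rfl | rfl | rfl
    · exact ⟨0, by rw [f0', add_zero]⟩
    · exact ⟨v, rfl⟩
    · exact ⟨f v, by rw [hd, hadd]⟩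
    · exact ⟨d, rfl⟩
  have h4 : ({0, d, f d, f d + d} : Finset V).card = 4 := by
    rw [Finset.card_insert_of_notMem, Finset.card_insert_of_notMem, Finset.card_pair]
    · exact fun e => hd0 (left_eq_add.1 e)
    · simp only [Finset.mem_insert, Finset.mem_singleton, not_or]
      exact ⟨fun e => hnf e.symm, fun e => hne2 (right_eq_add.1 e)⟩
    · simp only [Finset.mem_insert, Finset.mem_singleton, not_or]
      exact ⟨hd0.symm, hne2.symm, hne3.symm⟩
  have hDeq : D = {0, d, f d, f d + d} := (Finset.eq_of_subset_of_card_le hDsub (by omega)).symm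
  have himg : ∀ u, f u + u = 0 ∨ f u + u = d ∨ f u + u = f d ∨ f u + u = f d + d := fun u => by
    have := hmemD.2 ⟨u, rfl⟩
    rw [hDeq] at this
    simpa using this
  have hperp : ∀ w, f w = w → ∀ u, bil (f u + u) w = 0 := fun w hw u => by
    rw [bil_add_left]
    conv_lhs => arg 1; rw [← hw]
    rw [hf.bil_eq, F_add_self]
  have hconv : ∀ w, bil d w = 0 → bil (f d) w = 0 → f w = w := by
    intro w h1 h2
    refine CoT.eq_of_add (bil_nondeg fun u => ?_)
    obtain ⟨u', rfl⟩ : ∃ u', f u' = u := ⟨f (f u), h3 u⟩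
    have hb : bil (f u' + u') w = 0 := by
      rcases himg u' with e | e | e | e <;> rw [e]
      exacts [bil_zero_left _, h1, h2, by rw [bil_add_left, h1, h2, add_zero]]
    rw [bil_add_left, bil_comm w, hf.bil_eq, bil_comm w u', add_comm, ← bil_add_left, hb]
  -- the plane is anisotropic
  have hc : q d = bil d (f d) := by
    have h := q_add (f d) d
    rw [← hff, hf.q_eq, hf.q_eq, F_add_self, zero_add] at h
    rw [h, bil_comm]
  have hq1 : q d = 1 := by
    rcases F_cases (q d) with e | e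
    · exact absurd (hconv d (bil_self d) (by rw [bil_comm, ← hc, e])) hnf
    · exact e
  have hb1 : bil d (f d) = 1 := by rw [← hc, hq1]
  obtain ⟨k, hk, k1, k2⟩ := pair_move hq1 (by rw [hf.q_eq, hq1]) hb1
  refine ⟨k, hk, fun u => ?_⟩
  obtain ⟨s1, s2, -, -⟩ := sig_facts
  obtain ⟨k', hk', hl, hr⟩ := hk.inv
  obtain ⟨w, rfl⟩ : ∃ w, k' w = u := ⟨k u, hl u⟩
  rw [hr]
  set w0 := io (pp w) with hw0
  have hfix' : f (k' w0) = k' w0 := hconv _ (by
      rw [← hk.bil_eq, hr, k1, bil_comm]; exact (io_perp _).1) (by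
      rw [← hk.bil_eq, hr, k2, bil_comm]; exact (io_perp _).2)
  have e1 : k' a0 = d := by rw [← k1, hl]
  have e2 : k' v0 = f d := by rw [← k2, hl]
  conv_lhs => rw [← decomp w, pl, hk'.add, hk'.add, hk'.sm, hk'.sm, e1, e2, hadd, hadd, hf.sm, hf.sm, hff,
    hfix', hk.add, hk.add, hk.sm, hk.sm, hr, k2, hk.add, k2, k1]
  conv_rhs => rw [← decomp w, pl, sig_add, sig_add, isOm_sig.sm, isOm_sig.sm, s1, s2, (fix_iff _).2 (io_perp _)]
  rw [add_comm v0 a0]

variable {G : Type*} [Group G] [Finite G] {z : G} {Q : Subgroup G} {π : G → V} {ρ : G → V → V}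
  {x : G}

namespace Fx

variable (Z : Fx z Q π ρ x)
include Z

/-- An element of the centraliser of `z` inverting `x`. -/
theorem exists_invert : ∃ h, h * z = z * h ∧ h * x * h⁻¹ = x⁻¹ := by
  have S := Z.S
  have hxi := S.comm_inv Z.hz
  have h3 : ∀ v, sig' (sig' (sig' v)) = v := fun v => by
    calc sig' (sig' (sig' v)) = sig' (sig' (sig (sig v))) := by rw [(sig_inv v).2.2]
      _ = v := by rw [(sig_inv (sig v)).2.1, (sig_inv v).2.1]
  obtain ⟨k, hk, hks⟩ := conj_sig (f := sig') isOm_sig' h3 ⟨a0, by rw [sig_facts.2.2.1]; decide +kernel⟩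
    (by
      rw [Nat.card_eq_fintype_card, Fintype.card_congr (Equiv.subtypeEquivRight fix'_iff)]
      decide +kernel)
  obtain ⟨h, hh, hρ⟩ := S.lift k hk
  have hρi : ∀ v, ρ x⁻¹ v = sig' v := fun v => S.rho_inj Z.hz (by
    rw [← S.rho_mul Z.hz hxi, mul_inv_cancel, S.rho_one, Z.rho, (sig_inv v).1])
  have hz1 := S.comm_mul (S.comm_mul hh hxi) (S.comm_inv hh)
  have hd : h * x⁻¹ * h⁻¹ * x⁻¹ ∈ Q := (S.ker _ (S.comm_mul hz1 (S.comm_inv Z.hz))).1 fun v => by
    rw [S.rho_mul hz1 (S.comm_inv Z.hz), S.rho_mul (S.comm_mul hh hxi) (S.comm_inv hh), S.rho_mul hh hxi,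
      hρi (ρ h⁻¹ _), hρ, hks, ← hρ, ← S.rho_mul hh (S.comm_inv hh), mul_inv_cancel, S.rho_one,
      hρi, (sig_inv v).1]
  obtain ⟨r, hr, e⟩ := three_conj (R := Q) (b := x) (coprime_three S le_rfl) Z.three
    (fun r hr => S.conj_mem Z.hz hr) hd (by
      rw [show h * x⁻¹ * h⁻¹ = MulAut.conj h x⁻¹ by rfl, MulEquiv.orderOf_eq, orderOf_inv, Z.three])
  refine ⟨r * h, S.comm_mul (S.Qz hr) hh, ?_⟩
  calc r * h * x * (r * h)⁻¹ = (r * (h * x⁻¹ * h⁻¹) * r⁻¹)⁻¹ := by group
    _ = x⁻¹ := by rw [e]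

/-- An element of order three of the centraliser with 128 fixed points on `Q` is conjugate to `x`. -/
theorem conj_of_fix {y : G} (hy : y * z = z * y) (hy3 : orderOf y = 3)
    (hfix : 128 ≤ Nat.card ↥(Q ⊓ centralizer ({y} : Set G))) :
    ∃ h, h * z = z * h ∧ h * y * h⁻¹ = x := by
  have S := Z.S
  have hodd : Odd (orderOf y) := by rw [hy3]; decide
  have hy' : y ^ 3 = 1 := by rw [← hy3, pow_orderOf_eq_one]
  have hmem : ∀ {u}, u ∈ Q ⊓ centralizer ({y} : Set G) ↔ u ∈ Q ∧ ρ y (π u) = π u := fun {u} => by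
    rw [mem_inf, mem_centralizer_singleton_iff]
    exact and_congr_right fun hu => by rw [← fix_iff_comm S hy hodd hu, eq_comm]
  have h64 : 64 ≤ Nat.card {v : V // ρ y v = v} := by
    have h := card_lift S fun v => ρ y v = v
    rw [show Nat.card {u : G // u ∈ Q ∧ ρ y (π u) = π u} = Nat.card ↥(Q ⊓ centralizer ({y} : Set G)) from
      Nat.card_congr (Equiv.subtypeEquivRight fun u => hmem.symm)] at h
    omega
  have hne : ∃ v, ρ y v ≠ v := by
    by_contra hc
    push Not at hc
    have hyQ : y ∈ Q := (S.ker y hy).1 hc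
    have := eq_one_of_pow (CoFive.four_pow S hyQ) hy' (by norm_num)
    rw [this, orderOf_one] at hy3
    omega
  obtain ⟨k, hk, hks⟩ := conj_sig (S.om y hy) (fun v => by
    rw [← S.rho_mul hy hy, ← S.rho_mul (S.comm_mul hy hy) hy,
      show y * y * y = 1 by rw [← hy', pow_succ, pow_two], S.rho_one]) hne h64
  obtain ⟨h, hh, hρ⟩ := S.lift k hk
  have hz1 := S.comm_mul (S.comm_mul hh hy) (S.comm_inv hh)
  have hd : h * y * h⁻¹ * x⁻¹ ∈ Q := (S.ker _ (S.comm_mul hz1 (S.comm_inv Z.hz))).1 fun v => by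
    rw [S.rho_mul hz1 (S.comm_inv Z.hz), S.rho_mul (S.comm_mul hh hy) (S.comm_inv hh), S.rho_mul hh hy,
      hρ, hks, ← hρ, ← S.rho_mul hh (S.comm_inv hh), mul_inv_cancel, S.rho_one, ← Z.rho,
      ← S.rho_mul Z.hz (S.comm_inv Z.hz), mul_inv_cancel, S.rho_one]
  obtain ⟨r, hr, e⟩ := three_conj (R := Q) (b := x) (coprime_three S le_rfl) Z.three
    (fun r hr => S.conj_mem Z.hz hr) hd (by
      rw [show h * y * h⁻¹ = MulAut.conj h y by rfl, MulEquiv.orderOf_eq, hy3])
  refine ⟨r * h, S.comm_mul (S.Qz hr) hh, ?_⟩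
  calc r * h * y * (r * h)⁻¹ = r * (h * y * h⁻¹) * r⁻¹ := by group
    _ = x := e

variable {s g : G} (X : Fr z Q π ρ s g) (hs : π s = e0)
include X hs

theorem x_s : x * s = s * x := (Z.mem_fix X.sQ).2 (hs ▸ plane_facts.2.2.2.2.2.2.2.2.2.1)

/-- An element of the half at `s` with fixed parameter commutes with `x`. -/
theorem half_comm {b : G} {v : V} (hb : b ∈ hB z Q g) (hv : Vec π ρ s b v) (hp : Perp v) :
    x * b = b * x := by
  have hxs := Z.x_s X hs
  obtain ⟨hb', hv'⟩ := X.conj_B Z.hz hxs hb hv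
  rw [Z.rho, (fix_iff v).2 hp] at hv'
  have hd := X.B_diff hb hb' hv hv' (Eqv.refl _ _)
  set d := b⁻¹ * (x * b * x⁻¹) with hd'
  have hxd : x * d = d * x := X.E_comm Z.hz hxs hd
  have hrec : ∀ k : ℕ, x ^ k * b * (x ^ k)⁻¹ = b * d ^ k := by
    intro k
    induction k with
    | zero => simp
    | succ k ih =>
      have hk : x * d ^ k = d ^ k * x := (Commute.pow_right hxd k).eq
      calc x ^ (k + 1) * b * (x ^ (k + 1))⁻¹ = x * (x ^ k * b * (x ^ k)⁻¹) * x⁻¹ := by
            rw [pow_succ']; group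
        _ = x * b * x⁻¹ * (x * d ^ k * x⁻¹) := by rw [ih]; group
        _ = b * d ^ (k + 1) := by
          rw [hk, mul_inv_cancel_right, pow_succ', ← mul_assoc b, hd', mul_inv_cancel_left]
  have h3 := hrec 3
  rw [Z.pow_three, inv_one, one_mul, mul_one, left_eq_mul] at h3
  have hd1 : d = 1 := eq_one_of_pow (m := 2) (n := 3) (by rw [pow_two]; exact X.E_inv hd) h3 (by norm_num)
  rw [hd', inv_mul_eq_one] at hd1
  exact mul_inv_eq_iff_eq_mul.1 hd1.symm

/-- The element `x` centralises a subgroup of order 128 of the conjugate at `s`. -/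
theorem card_fix_right : 128 ≤ Nat.card ↥(Q₁ Q g ⊓ centralizer ({x} : Set G)) := by
  classical
  haveI : Fact (Nat.Prime 3) := ⟨Nat.prime_three⟩
  have hxs := Z.x_s X hs
  set C := Q₁ Q g ⊓ centralizer ({x} : Set G) with hC
  choose b hb hbv using fun v : {v : V // bil v e0 = 0 ∧ Perp v ∧ v.1.1 = 0} =>
    X.exists_B (v := v.1) (by rw [hs]; exact v.2.1)
  have hbC : ∀ v, b v ∈ C ⊓ centralizer ({z} : Set G) := fun v =>
    ⟨⟨(hb v).1, mem_centralizer_singleton_iff.2 (Z.half_comm X hs (hb v) (hbv v) v.2.2.1).symm⟩, (hb v).2⟩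
  have hEB : ∀ c d, zb z c * zb s d ∈ hB z Q g := fun c d =>
    ⟨(X.zb_mem c d).2, mem_centralizer_singleton_iff.2 (X.S.Qz (X.zb_mem c d).1)⟩
  have hEC : ∀ c d, zb z c * zb s d ∈ C ⊓ centralizer ({z} : Set G) := fun c d =>
    ⟨⟨(hEB c d).1, mem_centralizer_singleton_iff.2 (X.E_comm Z.hz hxs (X.zb_mem c d)).symm⟩, (hEB c d).2⟩
  let φ : (F × F) × {v : V // bil v e0 = 0 ∧ Perp v ∧ v.1.1 = 0} → ↥(C ⊓ centralizer ({z} : Set G)) :=
    fun p => ⟨b p.2 * (zb z p.1.1 * zb s p.1.2), mul_mem (hbC _) (hEC _ _)⟩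
  have h64 : 64 ≤ Nat.card ↥(C ⊓ centralizer ({z} : Set G)) := by
    have hinj : Function.Injective φ := by
      rintro ⟨⟨c, d⟩, v⟩ ⟨⟨c', d'⟩, v'⟩ e
      have e' : b v * (zb z c * zb s d) = b v' * (zb z c' * zb s d') := congrArg Subtype.val e
      have hm : ∀ w c d, Vec π ρ s (b w * (zb z c * zb s d)) w.1 := fun w c d => by
        simpa using X.vec_mul (hb w) (hEB c d) (hbv w) (X.vec_E (X.zb_mem c d))
      have hv := X.vec_unique (hm v c d) (e' ▸ hm v' c' d')
      rw [hs] at hv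
      have hvv : v = v' := Subtype.ext (hv.resolve_right fun h => by
        have h1 := congrArg (fun u : V => u.1.1) h
        simp [v.2.2.2, v'.2.2.2, e0] at h1)
      subst hvv
      obtain ⟨rfl, rfl⟩ := X.zb_inj (mul_left_cancel e')
      rfl
    have := Nat.card_le_card_of_injective φ hinj
    rw [Nat.card_prod, Nat.card_prod, Nat.card_zmod, fix_counts] at this
    exact this
  -- a fixed point outside the centraliser of `z`
  obtain ⟨u, huC, huz⟩ : ∃ u ∈ C, u * z ≠ z * u := by
    let α := {u : G // u ∈ Q₁ Q g ∧ u * z ≠ z * u}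
    letI : Fintype α := Fintype.ofFinite α
    have hpres : ∀ {y u : G}, y * z = z * y → y * s = s * y → u ∈ Q₁ Q g ∧ u * z ≠ z * u →
        y * u * y⁻¹ ∈ Q₁ Q g ∧ y * u * y⁻¹ * z ≠ z * (y * u * y⁻¹) := by
      intro y u hyz hys hu
      refine ⟨X.norm_Q₁ hys hu.1, fun e => hu.2 ?_⟩
      have hc : Commute (y⁻¹ * (y * u * y⁻¹) * y) z :=
        (((show Commute y z from hyz).inv_left).mul_left e).mul_left hyz
      rw [show y⁻¹ * (y * u * y⁻¹) * y = u by group] at hc
      exact hc.eq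
    let σx : Equiv.Perm α :=
      { toFun := fun u => ⟨x * u.1 * x⁻¹, hpres Z.hz hxs u.2⟩
        invFun := fun u => ⟨x⁻¹ * u.1 * x⁻¹⁻¹, hpres (Z.S.comm_inv Z.hz)
          ((show Commute x s from hxs).inv_left).eq u.2⟩
        left_inv := fun u => Subtype.ext (by simp only; group)
        right_inv := fun u => Subtype.ext (by simp only; group) }
    have hα : Fintype.card α = 256 := by
      have h1 : Nat.card ↥(Q₁ Q g) = 512 := by
        rw [card_map_of_injective (MulAut.conj g).injective, Z.S.card]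
      have h2 := X.card_B
      rw [← Nat.card_eq_fintype_card]
      have h3 := Set.ncard_sdiff_add_ncard_of_subset (s := ((hB z Q g : Subgroup G) : Set G))
        (t := ((Q₁ Q g : Subgroup G) : Set G)) (fun a ha => ha.1) (Set.toFinite _)
      rw [← Nat.card_coe_set_eq, ← Nat.card_coe_set_eq, ← Nat.card_coe_set_eq,
        show Nat.card ((hB z Q g : Subgroup G) : Set G) = 256 from h2,
        show Nat.card ((Q₁ Q g : Subgroup G) : Set G) = 512 from h1] at h3
      rw [Nat.card_congr (Equiv.subtypeEquivRight (fun a => (by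
        simp [mem_centralizer_singleton_iff] :
          (a ∈ Q₁ Q g ∧ a * z ≠ z * a) ↔ a ∈ ((Q₁ Q g : Set G) \ (hB z Q g : Set G)))))]
      change Nat.card ↥((Q₁ Q g : Set G) \ (hB z Q g : Set G)) = 256
      omega
    obtain ⟨u, hu⟩ := Equiv.Perm.exists_fixed_point_of_prime (p := 3) (n := 1) (σ := σx)
      (by rw [hα]; norm_num) (Equiv.ext fun u => Subtype.ext (by
        show x * (x * (x * u.1 * x⁻¹) * x⁻¹) * x⁻¹ = u.1
        rw [show x * (x * (x * u.1 * x⁻¹) * x⁻¹) * x⁻¹ = (x * x * x) * u.1 * (x * x * x)⁻¹ by group,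
          show x * x * x = 1 by rw [← Z.pow_three, pow_succ, pow_two], inv_one, one_mul, mul_one]))
    exact ⟨u.1, ⟨u.2.1, mem_centralizer_singleton_iff.2
      (mul_inv_eq_iff_eq_mul.1 (congrArg Subtype.val hu)).symm⟩, u.2.2⟩
  let ψ : Bool × ↥(C ⊓ centralizer ({z} : Set G)) → ↥C := fun p =>
    ⟨(if p.1 then u else 1) * p.2.1, mul_mem (by split_ifs; exacts [huC, one_mem _]) p.2.2.1⟩
  have hψ : Function.Injective ψ := by
    rintro ⟨i, w⟩ ⟨j, w'⟩ e
    have e' : (if i then u else 1) * w.1 = (if j then u else 1) * w'.1 := congrArg Subtype.val e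
    have hw := mem_centralizer_singleton_iff.1 w.2.2
    have hw' := mem_centralizer_singleton_iff.1 w'.2.2
    have hout : ∀ a b : G, a * z = z * a → b * z = z * b → u * a ≠ b := fun a b ha hb e => huz (by
      have hc : Commute (u * a * a⁻¹) z := (show Commute (u * a) z by rw [e]; exact hb).mul_left
        (show Commute a z from ha).inv_left
      rw [mul_inv_cancel_right] at hc
      exact hc.eq)
    cases i <;> cases j <;> simp only [↓reduceIte, Bool.false_eq_true, one_mul] at e'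
    · rw [Subtype.ext e']
    · exact absurd e'.symm (hout _ _ hw' hw)
    · exact absurd e' (hout _ _ hw hw')
    · rw [Subtype.ext (mul_left_cancel e')]
  have := Nat.card_le_card_of_injective ψ hψ
  rw [Nat.card_prod, Nat.card_eq_fintype_card (α := Bool), Fintype.card_bool] at this
  omega

/-- An element centralising `x` that carries `z` to `s`, and maps `Q` onto the subgroup at `s`. -/
theorem exists_n : ∃ n, n * x = x * n ∧ n * z * n⁻¹ = s ∧ ∀ a, a ∈ Q₁ Q g → n⁻¹ * a * n ∈ Q := by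
  have hxs := Z.x_s X hs
  set y := g⁻¹ * x * g with hy
  have hyz : y * z = z * y := by
    have h := hxs
    rw [← X.sconj] at h
    calc y * z = g⁻¹ * (x * (g * z * g⁻¹)) * g := by rw [hy]; group
      _ = g⁻¹ * (g * z * g⁻¹ * x) * g := by rw [h]
      _ = z * y := by rw [hy]; group
  have hy3 : orderOf y = 3 := by
    rw [hy, show g⁻¹ * x * g = MulAut.conj g⁻¹ x by simp, MulEquiv.orderOf_eq, Z.three]
  have hm : (Q ⊓ centralizer ({y} : Set G)).map (MulAut.conj g).toMonoidHom =
      Q₁ Q g ⊓ centralizer ({x} : Set G) := by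
    ext a
    rw [mem_conjMap, mem_inf, mem_inf, mem_conjMap, mem_centralizer_singleton_iff,
      mem_centralizer_singleton_iff]
    refine and_congr_right fun _ => ?_
    rw [hy, show g⁻¹ * a * g * (g⁻¹ * x * g) = g⁻¹ * (a * x) * g by group,
      show g⁻¹ * x * g * (g⁻¹ * a * g) = g⁻¹ * (x * a) * g by group, mul_left_inj, mul_right_inj]
  obtain ⟨h, hh, he⟩ := Z.conj_of_fix hyz hy3 (by
    have := Z.card_fix_right X hs
    rwa [← hm, card_map_of_injective (MulAut.conj g).injective] at this)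
  refine ⟨g * h⁻¹, ?_, ?_, fun a ha => ?_⟩
  · calc g * h⁻¹ * x = g * h⁻¹ * (h * y * h⁻¹) := by rw [he]
      _ = x * (g * h⁻¹) := by rw [hy]; group
  · rw [show g * h⁻¹ * z * (g * h⁻¹)⁻¹ = g * (h⁻¹ * z * h⁻¹⁻¹) * g⁻¹ by group,
      Z.S.zpi (Z.S.comm_inv hh), X.sconj]
  · rw [show (g * h⁻¹)⁻¹ * a * (g * h⁻¹) = h * (g⁻¹ * a * g) * h⁻¹ by group]
    exact Z.S.conj_mem hh (mem_conjMap.1 ha)

end Fx

end Cfsg.Agent.CoThree
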