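import Cfsg.Agent.Lib.CoThree.Derived
import Cfsg.Agent.Lib.CoT.Wrap

/-!
An element of order three whose commutator with the extraspecial subgroup is non-abelian of order eight
has quasisimple centraliser with quotient of Suzuki sporadic type.
-/

set_option autoImplicit false
set_option linter.style.haveILetI false
set_option linter.unusedSectionVars false
set_option maxRecDepth 20000
set_option synthInstance.maxSize 4000
set_option synthInstance.maxHeartbeats 400000

namespace Cfsg.Agent.CoThree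

open Cfsg.Agent.CoT Subgroup
open scoped commutatorElement

local notation "F" => ZMod 2

universe u

variable {G : Type u} [Group G] [Finite G]

/-- A small non-abelian commutator with `Q` leaves 128 fixed points. -/
theorem fix_of_small {z : G} {Q : Subgroup G} {π : G → V} {ρ : G → V → V} (S : Su z Q π ρ) {y : G}
    (hy : y * z = z * y) (hy3 : orderOf y = 3) {T : Subgroup G} (hT : T ≤ Q) (hT8 : Nat.card T = 8)
    (hTna : ∃ a ∈ T, ∃ b ∈ T, a * b ≠ b * a) (hTc : ∀ u ∈ Q, u * y * u⁻¹ * y⁻¹ ∈ T) :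
    128 ≤ Nat.card ↥(Q ⊓ centralizer ({y} : Set G)) := by
  classical
  have hodd : Odd (orderOf y) := by rw [hy3]; decide
  have hzT : z ∈ T := by
    obtain ⟨a, ha, b, hb, hab⟩ := hTna
    have h := S.rule (hT ha) (hT hb)
    rcases F_cases (bil (π a) (π b)) with e | e <;> rw [e] at h
    · exact absurd (by simpa [zb_zero] using h) hab
    · have h2 : z = (b * a)⁻¹ * (a * b) := by
        rw [eq_inv_mul_iff_mul_eq, h, zb_one]
      rw [h2]
      exact mul_mem (inv_mem (mul_mem hb ha)) (mul_mem ha hb)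
  have hf := S.om y hy
  let φ : V →+ V := AddMonoidHom.mk' (fun v => ρ y v + v) fun u w => by rw [hf.add]; abel
  have hlift : ∀ d : φ.range, ∃ t ∈ T, π t = (d : V) := by
    rintro ⟨-, v, rfl⟩
    obtain ⟨u, hu, rfl⟩ := S.pi_surj v
    refine ⟨_, hTc u hu, ?_⟩
    have hu' := inv_mem hu
    rw [show u * y * u⁻¹ * y⁻¹ = u * (y * u⁻¹ * y⁻¹) by group, S.pi_mul _ hu _ (S.conj_mem hy hu'),
      S.conj y hy _ hu', show π u⁻¹ = π u from ?_, add_comm]
    · rfl
    · have h := S.pi_mul _ hu _ hu'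
      rw [mul_inv_cancel, S.pi_one] at h
      exact (CoT.eq_of_add h.symm).symm
  choose l hlT hlπ using hlift
  let ψ : φ.range × F → T := fun p => ⟨l p.1 * zb z p.2, mul_mem (hlT _) (by
    rcases F_cases p.2 with e | e <;> rw [e]
    · rw [zb_zero]; exact one_mem _
    · rwa [zb_one])⟩
  have hψ : Function.Injective ψ := by
    rintro ⟨d, c⟩ ⟨d', c'⟩ e
    have e' : l d * zb z c = l d' * zb z c' := congrArg Subtype.val e
    have hzb : ∀ c : F, zb z c ∈ Q ∧ π (zb z c) = 0 := fun c => by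
      rcases F_cases c with rfl | rfl
      · rw [zb_zero]; exact ⟨one_mem _, S.pi_one⟩
      · rw [zb_one]; exact ⟨S.loc.mem, (S.pi_eq _ S.loc.mem).2 (Or.inr rfl)⟩
    have h := congrArg π e'
    rw [S.pi_mul _ (hT (hlT d)) _ (hzb c).1, S.pi_mul _ (hT (hlT d')) _ (hzb c').1, (hzb c).2, (hzb c').2,
      add_zero, add_zero, hlπ, hlπ] at h
    obtain rfl : d = d' := Subtype.ext h
    have h2 := mul_left_cancel e'
    rcases F_cases c with rfl | rfl <;> rcases F_cases c' with rfl | rfl <;>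
      simp only [zb_zero, zb_one] at h2
    · rfl
    · exact absurd h2.symm S.loc.ne_one
    · exact absurd h2 S.loc.ne_one
    · rfl
  have h4 : Nat.card φ.range * 2 ≤ 8 := by
    have h := Nat.card_le_card_of_injective ψ hψ
    rwa [Nat.card_prod, Nat.card_zmod, hT8] at h
  have h := φ.ker.card_mul_index
  rw [AddSubgroup.index_ker, show Nat.card V = 256 by rw [Nat.card_eq_fintype_card]; decide +kernel,
    show Nat.card φ.ker = Nat.card {v : V // ρ y v = v} from Nat.card_congr (Equiv.subtypeEquivRight fun v =>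
      ⟨fun e => CoT.eq_of_add e, fun e => by show ρ y v + v = 0; rw [e, CoT.add_self]⟩)] at h
  have hl := CoFive.card_lift S fun v => ρ y v = v
  rw [show Nat.card {u : G // u ∈ Q ∧ ρ y (π u) = π u} = Nat.card ↥(Q ⊓ centralizer ({y} : Set G)) from
    Nat.card_congr (Equiv.subtypeEquivRight fun u => by
      rw [mem_inf, mem_centralizer_singleton_iff]
      exact and_congr_right fun hu => by rw [← CoFive.fix_iff_comm S hy hodd hu, eq_comm])] at hl
  by_contra hlt
  have h64 : Nat.card {v : V // ρ y v = v} ≤ 63 := by omega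
  have := Nat.mul_le_mul h64 (show Nat.card φ.range ≤ 4 by omega)
  omega

/-- The two halves of the statement on a subgroup of order three, with the identification of the
quotient supplied for groups of the same universe. -/
theorem suz_data (z : G) (hz : orderOf z = 2) (Q : Subgroup (Subgroup.centralizer ({z} : Set G))) [Q.Normal]
    (hF : Cfsg.generalizedFittingSubgroup (Subgroup.centralizer ({z} : Set G)) = Q)
    (hQ : Cfsg.IsExtraspecial 2 Q) (hcard : Nat.card Q = 2 ^ 9)
    (e : (Subgroup.centralizer ({z} : Set G)) ⧸ Q ≃* Cfsg.Omega F (Cfsg.quadFormPlus 4 F))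
    (hnwc : ∃ g : G, (∃ hq : g * z * g⁻¹ ∈ Subgroup.centralizer ({z} : Set G),
      (⟨g * z * g⁻¹, hq⟩ : Subgroup.centralizer ({z} : Set G)) ∈ Q) ∧ g * z * g⁻¹ ≠ z)
    (X : Subgroup (Subgroup.centralizer ({z} : Set G))) (hX : Nat.card X = 3)
    (hQX : Nat.card ↥⁅Q, X⁆ = 8) (hQXna : ¬ IsMulCommutative ↥⁅Q, X⁆)
    [hn : ((X.map (Subgroup.centralizer ({z} : Set G)).subtype).subgroupOf
      (Subgroup.centralizer ((X.map (Subgroup.centralizer ({z} : Set G)).subtype) : Set G))).Normal] :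
    Cfsg.IsQuasisimple ↥(Subgroup.centralizer ((X.map (Subgroup.centralizer ({z} : Set G)).subtype) : Set G)) ∧
    ∃ (K : Type u) (_ : Group K) (_ : Finite K), SuzLike K ∧
      Nonempty (↥(Subgroup.centralizer ((X.map (Subgroup.centralizer ({z} : Set G)).subtype) : Set G)) ⧸
        (X.map (Subgroup.centralizer ({z} : Set G)).subtype).subgroupOf
          (Subgroup.centralizer ((X.map (Subgroup.centralizer ({z} : Set G)).subtype) : Set G)) ≃* K) := by
  classical
  haveI : Fact (Nat.Prime 3) := ⟨Nat.prime_three⟩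
  obtain ⟨π, ρ, S⟩ := CoT.exists_su hz Q hF hQ hcard e
  obtain ⟨g, ⟨hq, hgQ⟩, hgne⟩ := hnwc
  obtain ⟨s₀, g₀, X₀⟩ := CoT.exists_frame S ⟨g, Subgroup.mem_map_of_mem _ hgQ, hgne⟩
  obtain ⟨x, W, hqs, hL⟩ := exists_quasisimple S X₀
  haveI : IsCyclic X := isCyclic_of_prime_card hX
  obtain ⟨y₀, hgen⟩ := IsCyclic.exists_generator (α := X)
  set y : G := ((y₀ : Subgroup.centralizer ({z} : Set G)) : G) with hy
  have hyz : y * z = z * y := mem_centralizer_singleton_iff.1 (y₀ : Subgroup.centralizer ({z} : Set G)).2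
  have hy3 : orderOf y = 3 := by
    rw [hy, Subgroup.orderOf_coe, Subgroup.orderOf_coe, orderOf_eq_card_of_forall_mem_zpowers hgen, hX]
  have hX' : X.map (Subgroup.centralizer ({z} : Set G)).subtype = zpowers y := by
    refine le_antisymm ?_ (zpowers_le.2 ⟨_, y₀.2, rfl⟩)
    rintro _ ⟨a, ha, rfl⟩
    obtain ⟨i, hi⟩ := mem_zpowers_iff.1 (hgen ⟨a, ha⟩)
    exact mem_zpowers_iff.2 ⟨i, by simpa [hy] using congrArg (fun t : X => ((t : Subgroup.centralizer ({z} : Set G)) : G)) hi⟩
  have hle : ⁅Q, X⁆ ≤ Q := Subgroup.commutator_le_left Q X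
  have h128 : 128 ≤ Nat.card ↥(Q.map (Subgroup.centralizer ({z} : Set G)).subtype ⊓ centralizer ({y} : Set G)) := by
    refine fix_of_small S hyz hy3 (T := (⁅Q, X⁆).map (Subgroup.centralizer ({z} : Set G)).subtype) (Subgroup.map_mono hle) ?_ ?_ ?_
    · rw [card_map_of_injective (Subgroup.centralizer ({z} : Set G)).subtype_injective, hQX]
    · by_contra hc
      push Not at hc
      exact hQXna ⟨⟨fun a b => Subtype.ext ((Subgroup.centralizer ({z} : Set G)).subtype_injective (by
        simpa [map_mul] using hc _ (mem_map_of_mem (Subgroup.centralizer ({z} : Set G)).subtype a.2) _ (mem_map_of_mem (Subgroup.centralizer ({z} : Set G)).subtype b.2)))⟩⟩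
    · rintro _ ⟨u, hu, rfl⟩
      exact ⟨⁅u, (y₀ : Subgroup.centralizer ({z} : Set G))⁆, Subgroup.commutator_mem_commutator hu y₀.2, by
        rw [map_commutatorElement, commutatorElement_def]; rfl⟩
  obtain ⟨h, -, hconj⟩ := W.conj_of_fix hyz hy3 h128
  set A := centralizer ((X.map (Subgroup.centralizer ({z} : Set G)).subtype : Subgroup G) : Set G) with hA
  set B := centralizer ({x} : Set G) with hB
  have hmap : A.map (MulAut.conj h).toMonoidHom = B := by
    have hA' : A = centralizer ({y} : Set G) :=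
      (congrArg (fun H : Subgroup G => centralizer (H : Set G)) hX').trans
        (by rw [zpowers_eq_closure, centralizer_closure])
    ext a
    rw [hA', hB, mem_map_equiv, mem_centralizer_singleton_iff, mem_centralizer_singleton_iff, ← hconj,
      MulAut.conj_symm_apply]
    rw [show a * (h * y * h⁻¹) = h * ((h⁻¹ * a * h) * y) * h⁻¹ by group,
      show h * y * h⁻¹ * a = h * (y * (h⁻¹ * a * h)) * h⁻¹ by group, mul_left_inj, mul_right_inj]
  let eAB : A ≃* B := (A.equivMapOfInjective _ (MulAut.conj h).injective).trans (MulEquiv.subgroupCongr hmap)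
  have heAB : ∀ a : A, (eAB a : G) = h * a * h⁻¹ := fun a => rfl
  refine ⟨(Components.quasisimple_congr eAB).2 hqs, _, inferInstance, inferInstance, hL,
    ⟨QuotientGroup.congr _ _ eAB ?_⟩⟩
  ext b
  rw [mem_map, mem_subgroupOf]
  constructor
  · rintro ⟨a, ha, rfl⟩
    obtain ⟨i, hi⟩ := mem_zpowers_iff.1 (hX'.le (mem_subgroupOf.1 ha))
    refine mem_zpowers_iff.2 ⟨i, ?_⟩
    refine (congrArg (fun w => w ^ i) hconj.symm).trans ?_
    rw [conj_zpow, hi]
    exact (heAB a).symm
  · intro hb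
    obtain ⟨i, hi⟩ := mem_zpowers_iff.1 hb
    refine ⟨eAB.symm b, mem_subgroupOf.2 (hX'.ge (mem_zpowers_iff.2 ⟨i, ?_⟩)), eAB.apply_symm_apply b⟩
    have h2 := heAB (eAB.symm b)
    rw [eAB.apply_symm_apply] at h2
    refine mul_left_cancel (a := h) (mul_right_cancel (b := h⁻¹) ?_)
    rw [← conj_zpow]
    exact (congrArg (fun w => w ^ i) hconj).trans (hi.trans h2)

end Cfsg.Agent.CoThree

namespace Cfsg.Agent.CoThree

open Subgroup

/-- The full statement from an identification of every group of Suzuki sporadic type in the universe. -/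
theorem suz_of.{v} {G : Type v} [Group G] [Finite G]
    (ident : ∀ {K : Type v} [Group K] [Finite K] (z : K) (_ : orderOf z = 2)
      (Q : Subgroup (Subgroup.centralizer ({z} : Set K))) [Q.Normal]
      (_ : Cfsg.generalizedFittingSubgroup (Subgroup.centralizer ({z} : Set K)) = Q)
      (_ : Cfsg.IsExtraspecial 2 Q) (_ : Nat.card Q = 2 ^ 7)
      (_ : (Subgroup.centralizer ({z} : Set K)) ⧸ Q ≃* Cfsg.Omega (ZMod 2) (Cfsg.quadFormMinus 2 (ZMod 2) 1 1))
      (_ : ∃ g : K, (∃ hq : g * z * g⁻¹ ∈ Subgroup.centralizer ({z} : Set K),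
        (⟨g * z * g⁻¹, hq⟩ : Subgroup.centralizer ({z} : Set K)) ∈ Q) ∧ g * z * g⁻¹ ≠ z), Cfsg.Spor.IsoSuz K)
    (z : G) (hz : orderOf z = 2) (Q : Subgroup (Subgroup.centralizer ({z} : Set G))) [Q.Normal]
    (hF : Cfsg.generalizedFittingSubgroup (Subgroup.centralizer ({z} : Set G)) = Q)
    (hQ : Cfsg.IsExtraspecial 2 Q) (hcard : Nat.card Q = 2 ^ 9)
    (e : (Subgroup.centralizer ({z} : Set G)) ⧸ Q ≃* Cfsg.Omega (ZMod 2) (Cfsg.quadFormPlus 4 (ZMod 2)))
    (hnwc : ∃ g : G, (∃ hq : g * z * g⁻¹ ∈ Subgroup.centralizer ({z} : Set G),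
      (⟨g * z * g⁻¹, hq⟩ : Subgroup.centralizer ({z} : Set G)) ∈ Q) ∧ g * z * g⁻¹ ≠ z)
    (X : Subgroup (Subgroup.centralizer ({z} : Set G))) (hX : Nat.card X = 3)
    (hQX : Nat.card ↥⁅Q, X⁆ = 8) (hQXna : ¬ IsMulCommutative ↥⁅Q, X⁆)
    [((X.map (Subgroup.centralizer ({z} : Set G)).subtype).subgroupOf
      (Subgroup.centralizer ((X.map (Subgroup.centralizer ({z} : Set G)).subtype) : Set G))).Normal] :
    Cfsg.IsQuasisimple ↥(Subgroup.centralizer ((X.map (Subgroup.centralizer ({z} : Set G)).subtype) : Set G)) ∧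
      Cfsg.Spor.IsoSuz (↥(Subgroup.centralizer ((X.map (Subgroup.centralizer ({z} : Set G)).subtype) : Set G)) ⧸
        (X.map (Subgroup.centralizer ({z} : Set G)).subtype).subgroupOf
          (Subgroup.centralizer ((X.map (Subgroup.centralizer ({z} : Set G)).subtype) : Set G))) := by
  obtain ⟨hqs, K, _, _, ⟨-, -, z', hz', Q', hn', hF', hQ', hc', ⟨e'⟩, hw'⟩, ⟨i⟩⟩ :=
    suz_data z hz Q hF hQ hcard e hnwc X hX hQX hQXna
  haveI := hn'
  obtain ⟨j⟩ := ident (K := K) z' hz' Q' hF' hQ' hc' e' hw'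
  exact ⟨hqs, ⟨i.trans j⟩⟩

end Cfsg.Agent.CoThree
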